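import Cfsg.Agent.FZ.Defs
import Cfsg.Agent.Trans.SylowIn
import Mathlib.FieldTheory.ChevalleyWarning
import Mathlib.Algebra.Module.ZMod

/-!
# Anisotropic quadratic maps over the field with two elements; a normaliser argument
-/

set_option autoImplicit false
set_option linter.unusedSectionVars false

namespace Cfsg.Lib.FZ

open Subgroup Cfsg.Lib.Trans Cfsg.Lib.Gold
open scoped commutatorElement

theorem CW.bil {V W : Type*} [AddCommGroup V] [AddCommGroup W]
    [Module (ZMod 2) V] [Module (ZMod 2) W] [Finite V] [Finite W]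
    (B : V →ₗ[ZMod 2] V →ₗ[ZMod 2] W) (h : ∀ v, B v v = 0 → v = 0) : Nat.card V ≤ Nat.card W ^ 2 := by
  classical
  have := Fact.mk Nat.prime_two
  let bV := Module.finBasis (ZMod 2) V
  let bW := Module.finBasis (ZMod 2) W
  let f : Fin (Module.finrank (ZMod 2) W) → MvPolynomial (Fin (Module.finrank (ZMod 2) V)) (ZMod 2) :=
    fun j => ∑ i, ∑ k, MvPolynomial.C (bW.repr (B (bV i) (bV k)) j) *
      (MvPolynomial.X i * MvPolynomial.X k)
  have hdeg : ∀ j, (f j).totalDegree ≤ 2 := fun j =>
    MvPolynomial.totalDegree_finsetSum_le fun i _ => MvPolynomial.totalDegree_finsetSum_le fun k _ =>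
      (MvPolynomial.totalDegree_mul _ _).trans (by
        rw [MvPolynomial.totalDegree_C, zero_add]
        refine (MvPolynomial.totalDegree_mul _ _).trans ?_
        rw [MvPolynomial.totalDegree_X, MvPolynomial.totalDegree_X])
  have heval : ∀ x j, MvPolynomial.eval x (f j) =
      bW.repr (B (∑ i, x i • bV i) (∑ i, x i • bV i)) j := fun x j => by
    simp only [f, map_sum, map_mul, MvPolynomial.eval_C, MvPolynomial.eval_X,
      LinearMap.sum_apply, map_smul, LinearMap.smul_apply, Finsupp.finsetSum_apply,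
      Finsupp.smul_apply, smul_eq_mul]
    rw [Finset.sum_comm]
    refine Finset.sum_congr rfl fun i _ => ?_
    rw [Finset.mul_sum]
    exact Finset.sum_congr rfl fun k _ => by ring
  rw [Module.natCard_eq_pow_finrank (K := ZMod 2) (V := V),
    Module.natCard_eq_pow_finrank (K := ZMod 2) (V := W), Nat.card_zmod, ← pow_mul]
  refine Nat.pow_le_pow_right two_pos (not_lt.1 fun hlt => ?_)
  have h1 := char_dvd_card_solutions_of_fintype_sum_lt (K := ZMod 2) 2 (f := f) (by
    refine lt_of_le_of_lt (Finset.sum_le_sum fun j _ => hdeg j) ?_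
    simpa using hlt)
  have h2 : Nat.card {x // ∀ j, MvPolynomial.eval x (f j) = 0} = 1 := by
    refine Nat.card_eq_one_iff_exists.2 ⟨⟨0, fun j => by rw [heval]; simp⟩, fun x => Subtype.ext ?_⟩
    have h3 := h (∑ i, x.1 i • bV i) (bW.repr.injective (Finsupp.ext fun j => by
      rw [← heval, x.2 j]; simp))
    exact funext (Fintype.linearIndependent_iff.1 bV.linearIndependent _ h3)
  have h4 : 2 ∣ Nat.card {x // ∀ j, MvPolynomial.eval x (f j) = 0} := by
    rw [Nat.card_eq_fintype_card]; convert h1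
  omega

theorem cw {M Z : Type*} [AddCommGroup M] [AddCommGroup Z] [Finite M] [Finite Z]
    (hM : ∀ x : M, x + x = 0) (hZ : ∀ z : Z, z + z = 0) (c : M → Z) (β : M → M → Z)
    (pol : ∀ x y, c (x + y) = c x + c y + β x y) (add : ∀ x y z, β (x + y) z = β x z + β y z)
    (an : ∀ x, c x = 0 → x = 0) : Nat.card M ≤ Nat.card Z ^ 2 := by
  classical
  have := Fact.mk Nat.prime_two
  let _ : Module (ZMod 2) M := AddCommGroup.zmodModule fun x => by rw [two_nsmul, hM]
  let _ : Module (ZMod 2) Z := AddCommGroup.zmodModule fun x => by rw [two_nsmul, hZ]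
  have sy : ∀ x y, β x y = β y x := fun x y => by
    have h := pol x y
    rw [add_comm x y, pol, add_comm (c y)] at h
    exact (add_left_cancel h).symm
  have b0 : ∀ y, β 0 y = 0 := fun y => by simpa using add 0 0 y
  have c0 : c 0 = 0 := by simpa [b0] using pol 0 0
  have bd : ∀ x, β x x = 0 := fun x => by
    have h := pol x x
    rwa [hM, c0, hZ, zero_add, eq_comm] at h
  let β1 : M → M →ₗ[ZMod 2] Z := fun x =>
    (AddMonoidHom.mk' (β x) fun y z => by rw [sy, add, sy y, sy z]).toZModLinearMap 2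
  let β2 : M →ₗ[ZMod 2] M →ₗ[ZMod 2] Z :=
    (AddMonoidHom.mk' β1 fun x y => LinearMap.ext fun z => add x y z).toZModLinearMap 2
  have hβ : ∀ x y, β2 x y = β x y := fun _ _ => rfl
  let e := Module.finBasis (ZMod 2) M
  let B : M →ₗ[ZMod 2] M →ₗ[ZMod 2] Z := e.constr (ZMod 2) fun i => e.constr (ZMod 2) fun j =>
    if i = j then c (e i) else if i < j then β (e i) (e j) else 0
  have hB : ∀ i j, B (e i) (e j) = if i = j then c (e i) else if i < j then β (e i) (e j) else 0 :=
    fun i j => by simp only [B, Module.Basis.constr_basis]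
  have h1 : B + B.flip = β2 := e.ext fun i => e.ext fun j => by
    rw [LinearMap.add_apply, LinearMap.add_apply, LinearMap.flip_apply, hB, hB, hβ]
    rcases lt_trichotomy i j with h | rfl | h
    · simp [h, h.ne, h.ne', h.not_gt]
    · simp [hZ, bd]
    · simp [h, h.ne, h.ne', h.not_gt, sy (e i)]
  have h2 : ∀ x y, B x y + B y x = β x y := fun x y => by rw [← hβ, ← h1]; rfl
  let δ : M →ₗ[ZMod 2] Z := (AddMonoidHom.mk' (fun x => c x - B x x) fun x y => by
    simp only [pol, map_add, LinearMap.add_apply, ← h2]; abel).toZModLinearMap 2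
  have h3 : δ = 0 := e.ext fun i => by
    change c (e i) - B (e i) (e i) = 0
    rw [hB, if_pos rfl, sub_self]
  refine CW.bil B fun v hv => an v ?_
  have h4 : c v - B v v = 0 := LinearMap.congr_fun h3 v
  rwa [hv, sub_zero] at h4

theorem cent_of {G : Type*} [Group G] [Finite G] {P : Subgroup G} {t : G} (hP : IsPGroup 2 P)
    (ht : t ∈ P) (h : ∀ x ∈ P, Commute (x * t * x⁻¹) t → x * t * x⁻¹ = t) : P ≤ C1 t := by
  have := Fact.mk Nat.prime_two
  by_contra hn
  obtain ⟨x, ⟨h1, h2⟩, h3⟩ := SetLike.exists_of_lt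
    (lt_inf_normalizer hP (inf_lt_left.2 hn : P ⊓ C1 t < P))
  have h4 := (mem_normalizer_conj h2 (show t ∈ P ⊓ C1 t from ⟨ht, mem_C1.2 rfl⟩)).2
  exact h3 ⟨h1, mem_C1.2 (mul_inv_eq_iff_eq_mul.1 (h x h1 (mem_C1.1 h4)))⟩

end Cfsg.Lib.FZ
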