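import Cfsg.Agent.FZ.B4
import Cfsg.Agent.FZ.CW

/-!
# The anisotropy bound
-/

set_option autoImplicit false
set_option linter.unusedSectionVars false

namespace Cfsg.Lib.FZ

open Subgroup Cfsg.Lib.Trans Cfsg.Lib.Gold
open scoped commutatorElement

namespace ANI

theorem cw' {M Z : Type*} [Group M] [Finite M] [AddCommGroup Z] [Finite Z] (N : Subgroup M)
    (hM : ∀ x : M, x * x = 1) (hZ : ∀ z : Z, z + z = 0) (c : M → Z) (β : M → M → Z)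
    (pol : ∀ x y, c (x * y) = c x + c y + β x y) (add : ∀ x y z, β (x * y) z = β x z + β y z)
    (cN : ∀ x, ∀ e ∈ N, c (x * e) = c x) (bN : ∀ x z, ∀ e ∈ N, β (x * e) z = β x z)
    (an : ∀ x, c x = 0 → x ∈ N) : Nat.card M ≤ Nat.card N * Nat.card Z ^ 2 := by
  let _ : CommGroup M := { ‹Group M› with
    mul_comm := fun a b => by
      rw [← inv_eq_of_sq (hM (a * b)), mul_inv_rev, inv_eq_of_sq (hM a), inv_eq_of_sq (hM b)] }
  have hout : ∀ x y : M ⧸ N, ∃ e ∈ N, (x * y).out = x.out * y.out * e := fun x y => by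
    obtain ⟨e, he⟩ := QuotientGroup.mk_out_eq_mul N (x.out * y.out)
    refine ⟨e, e.2, ?_⟩
    rw [← he, QuotientGroup.mk_mul, QuotientGroup.out_eq', QuotientGroup.out_eq']
  have h := cw (M := Additive (M ⧸ N)) (Z := Z)
    (fun x => by
      obtain ⟨a, ha⟩ := QuotientGroup.mk_surjective x.toMul
      apply Additive.toMul.injective
      rw [toMul_add, ← ha, ← QuotientGroup.mk_mul, hM]; rfl)
    hZ (fun x => c x.toMul.out) (fun x y => β x.toMul.out y.toMul.out)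
    (fun x y => by
      obtain ⟨e, he, h⟩ := hout x.toMul y.toMul
      show c (x.toMul * y.toMul).out = _
      rw [h, cN _ _ he, pol])
    (fun x y z => by
      obtain ⟨e, he, h⟩ := hout x.toMul y.toMul
      show β (x.toMul * y.toMul).out _ = _
      rw [h, bN _ _ _ he, add])
    (fun x hx => by
      apply Additive.toMul.injective
      rw [← QuotientGroup.out_eq' x.toMul]
      exact (QuotientGroup.eq_one_iff _).2 (an _ hx))
  rw [card_eq_card_quotient_mul_card_subgroup N, mul_comm]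
  exact Nat.mul_le_mul_left _ h

variable {G F V : Type*} [Group G] [Field F] [AddCommGroup V] [Module F V] [Finite G] [Finite F]
  [Finite V] {f : V →ₗ[F] V →ₗ[F] F} {qq : V → F} {d : ℕ} {Φ Φ' : Fl G F V}

/-- The coordinates of the elements of a subgroup. -/
def pre (h : Sp f qq d Φ) (X : Subgroup G) : AddSubgroup F where
  carrier := {a | Φ.ι a ∈ X}
  zero_mem' := by show Φ.ι 0 ∈ X; rw [h.ι_zero]; exact one_mem _
  add_mem' {a b} ha hb := by show Φ.ι (a + b) ∈ X; rw [h.ι_add]; exact mul_mem ha hb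
  neg_mem' {a} ha := by
    show Φ.ι (-a) ∈ X
    rwa [show -a = a by linear_combination (-a) * h.two]

theorem pre_eq_1' : type_of% @pre.eq_1 := @pre.eq_1

theorem card_sup_le (h : Sp f qq d Φ) {X Y : Subgroup G} (hX : X ≤ Φ.R) (hY : Y ≤ Φ.R) :
    Nat.card ↥(X ⊔ Y) ≤ Nat.card ↥(pre h X ⊔ pre h Y) := by
  let I : Subgroup G :=
    { carrier := {x | ∃ a ∈ pre h X ⊔ pre h Y, x = Φ.ι a}
      one_mem' := ⟨0, zero_mem _, h.ι_zero.symm⟩
      mul_mem' := by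
        rintro _ _ ⟨a, ha, rfl⟩ ⟨b, hb, rfl⟩
        exact ⟨a + b, add_mem ha hb, (h.ι_add a b).symm⟩
      inv_mem' := by
        rintro _ ⟨a, ha, rfl⟩
        exact ⟨a, ha, inv_eq_of_sq (h.R_sq (Φ.ι_mem a))⟩ }
  have h1 : X ⊔ Y ≤ I := sup_le
    (fun x hx => by
      obtain ⟨a, rfl⟩ := h.mem_R.1 (hX hx)
      exact ⟨a, AddSubgroup.mem_sup_left hx, rfl⟩)
    (fun x hx => by
      obtain ⟨a, rfl⟩ := h.mem_R.1 (hY hx)
      exact ⟨a, AddSubgroup.mem_sup_right hx, rfl⟩)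
  refine (Subgroup.card_le_of_le h1).trans (Nat.card_le_card_of_surjective
    (fun a : ↥(pre h X ⊔ pre h Y) => (⟨Φ.ι a, a, a.2, rfl⟩ : I)) ?_)
  rintro ⟨_, a, ha, rfl⟩
  exact ⟨⟨a, ha⟩, rfl⟩

variable (h : Sp f qq d Φ) {g : G} (hg : g ∈ Ns Φ.Q)
include h hg

theorem sQ {y : G} (hy : y ∈ Φ.Q) : g * y * g⁻¹ * y⁻¹ ∈ Φ.Q :=
  mul_mem (mem_normalizer_conj hg hy) (inv_mem hy)

theorem s_mul {y z : G} (hy : y ∈ Φ.Q) (hz : z ∈ Φ.Q) :
    g * (y * z) * g⁻¹ * (y * z)⁻¹ = (g * y * g⁻¹ * y⁻¹) * (g * z * g⁻¹ * z⁻¹) *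
      Φ.ι (f (Φ.π y) (Φ.π (g * z * g⁻¹ * z⁻¹))) := by
  have hs := sQ h hg hz
  rw [mul_assoc (g * y * g⁻¹ * y⁻¹), B4.R_comm h (Φ.ι_mem _) hs, ← h.comm y hy _ hs]
  group

theorem s_mul_K {y k : G} (hy : y ∈ Φ.Q) (hk : k ∈ Φ.K g) :
    g * (y * k) * g⁻¹ * (y * k)⁻¹ = (g * y * g⁻¹ * y⁻¹) * (g * k * g⁻¹ * k⁻¹) := by
  obtain ⟨h1, h2⟩ := (h.mem_K hg).1 hk
  rw [s_mul h hg hy h1, (h.π_eq_zero (h.R_le_Q h2)).2 h2, map_zero, h.ι_zero, mul_one]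

theorem mem_K_of {y z : G} (hy : y ∈ Φ.Q) (hz : z ∈ Φ.Q)
    (e : Φ.π (g * y * g⁻¹ * y⁻¹) = Φ.π (g * z * g⁻¹ * z⁻¹)) : y⁻¹ * z ∈ Φ.K g := by
  have hk := mul_mem (inv_mem hy) hz
  refine (h.mem_K hg).2 ⟨hk, (h.π_eq_zero (sQ h hg hk)).1 ?_⟩
  have h1 := s_mul h hg hy hk
  rw [mul_inv_cancel_left] at h1
  rw [h1, h.π_mul _ (mul_mem (sQ h hg hy) (sQ h hg hk)) _ (h.ι_Q _), h.π_mul _ (sQ h hg hy) _
    (sQ h hg hk), (h.π_eq_zero (h.ι_Q _)).2 (Φ.ι_mem _), add_zero] at e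
  exact left_eq_add.1 e

end ANI

variable {G F V : Type*} [Group G] [Field F] [AddCommGroup V] [Module F V] [Finite G] [Finite F]
  [Finite V] {f : V →ₗ[F] V →ₗ[F] F} {qq : V → F} {d : ℕ} {Φ Φ' : Fl G F V}

namespace Sp
variable (h : Sp f qq d Φ) {g u w r v a x y : G} {X P Y : Subgroup G}
include h

theorem ani (hg : g ∈ Ns Φ.Q) (hR : g ∈ Cs Φ.R) (g2 : g * g = 1) {M E0 : Subgroup G}
    (hM : M ≤ Φ.W g ⊓ C1 g) (hE : E0 ≤ M ⊓ Φ.R)
    (hz : ∀ y ∈ Φ.Q, g * y * g⁻¹ * y⁻¹ ∈ M → g * y * g⁻¹ * y⁻¹ = 1) :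
    Nat.card M * Nat.card ↥(Φ.R1 g ⊔ E0) ^ 2 ≤ Nat.card E0 * Nat.card F ^ 2 := by
  have hW : ∀ w : M, w.1 ∈ Φ.W g := fun w => (hM w.2).1
  have hQ : ∀ w : M, w.1 ∈ Φ.Q := fun w => h.W_le hg (hW w)
  have ex : ∀ w : M, ∃ y ∈ Φ.Q, ∃ c, w.1 = g * y * g⁻¹ * y⁻¹ * Φ.ι c := fun w => by
    obtain ⟨y, hy, r, hr, e⟩ := (h.mem_W hg).1 (hW w)
    obtain ⟨c, rfl⟩ := h.mem_R.1 hr
    exact ⟨y, hy, c, e⟩
  choose Y hY c hc using ex
  set S := ANI.pre h (Φ.R1 g) ⊔ ANI.pre h E0 with hS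
  have πs : ∀ {y : G} (a : F), y ∈ Φ.Q →
      Φ.π (g * y * g⁻¹ * y⁻¹ * Φ.ι a) = Φ.π (g * y * g⁻¹ * y⁻¹) := fun a hy => by
    rw [h.π_mul _ (ANI.sQ h hg hy) _ (h.ι_Q _), (h.π_eq_zero (h.ι_Q _)).2 (Φ.ι_mem _), add_zero]
  have πw : ∀ w : M, Φ.π w.1 = Φ.π (g * Y w * g⁻¹ * (Y w)⁻¹) := fun w => by
    rw [hc w, πs _ (hY w)]
  -- independence of the choices
  have L1 : ∀ (w : M) {y : G} (a : F), y ∈ Φ.Q → w.1 = g * y * g⁻¹ * y⁻¹ * Φ.ι a →
      (c w : F ⧸ S) = a := fun w y a hy e => by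
    have hk := ANI.mem_K_of h hg (hY w) hy (by rw [← πw, e, πs _ hy])
    have h1 := ANI.s_mul_K h hg (hY w) hk
    rw [mul_inv_cancel_left] at h1
    rw [h1, hc w, mul_assoc _ _ (Φ.ι a), mul_right_inj] at e
    refine QuotientAddGroup.eq.2 (AddSubgroup.mem_sup_left (neg_mem_iff.1 ?_))
    show Φ.ι (-(-c w + a)) ∈ Φ.R1 g
    refine (h.mem_R1 hg).2 ⟨_, hk, ?_⟩
    apply mul_right_cancel (b := Φ.ι a)
    rw [← e, ← h.ι_add]
    congr 1; ring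
  have L2 : ∀ (w z : M) {y : G}, y ∈ Φ.Q → Φ.π w.1 = Φ.π (g * y * g⁻¹ * y⁻¹) →
      f (Φ.π (Y w)) (Φ.π z.1) = f (Φ.π y) (Φ.π z.1) := fun w z y hy e => by
    have hk := ANI.mem_K_of h hg (hY w) hy (by rw [← πw, e])
    have h1 := (h.commute_iff (h.K_le g hk) (hQ z)).1 (h.KW_comm hg hR hk (hW z))
    rw [h.π_mul _ (inv_mem (hY w)) _ hy, h.π_inv (hY w), map_add, LinearMap.add_apply] at h1
    linear_combination h1 - f (Φ.π y) (Φ.π z.1) * h.two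
  have L3 : ∀ w z : M, (w * z : M).1 = g * (Y w * Y z) * g⁻¹ * (Y w * Y z)⁻¹ *
      Φ.ι (c w + c z + f (Φ.π (Y w)) (Φ.π z.1)) := fun w z => by
    rw [ANI.s_mul h hg (hY w) (hY z), ← πw, mul_assoc, ← h.ι_add,
      show f (Φ.π (Y w)) (Φ.π z.1) + (c w + c z + f (Φ.π (Y w)) (Φ.π z.1)) = c w + c z by
        linear_combination f (Φ.π (Y w)) (Φ.π z.1) * h.two,
      h.ι_add, coe_mul, hc w, hc z, mul_assoc, ← mul_assoc (Φ.ι (c w)),
      ← B4.R_comm h (Φ.ι_mem (c w)) (ANI.sQ h hg (hY z))]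
    simp only [mul_assoc]
  have key := ANI.cw' (M := M) (Z := F ⧸ S) (E0.subgroupOf M)
    (fun w => Subtype.ext (by
      rw [coe_mul, ← h.W_conj hg hR g2 (hW w), ← mem_C1.1 (hM w.2).2, coe_one]
      group))
    (fun z => by
      obtain ⟨a, rfl⟩ := QuotientAddGroup.mk_surjective z
      rw [← QuotientAddGroup.mk_add, show a + a = 0 by linear_combination a * h.two]; rfl)
    (fun w => (c w : F ⧸ S)) (fun w z => (f (Φ.π (Y w)) (Φ.π z.1) : F ⧸ S))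
    (fun w z => L1 _ _ (mul_mem (hY w) (hY z)) (L3 w z))
    (fun w w' z => by
      rw [L2 (w * w') z (mul_mem (hY w) (hY w')) (by rw [L3, πs _ (mul_mem (hY w) (hY w'))]),
        h.π_mul _ (hY w) _ (hY w'), map_add, LinearMap.add_apply, QuotientAddGroup.mk_add])
    (fun w e he => by
      obtain ⟨a, ha⟩ := (h.mem_R (r := e.1)).1 (hE he).2
      rw [L1 (w * e) (c w + a) (hY w) (by rw [coe_mul, hc w, ha, h.ι_add, ← mul_assoc]),
        QuotientAddGroup.mk_add, (QuotientAddGroup.eq_zero_iff a).2, add_zero]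
      refine AddSubgroup.mem_sup_right ?_
      show Φ.ι a ∈ E0
      rw [← ha]; exact he)
    (fun w z e he => by
      rw [L2 (w * e) z (hY w)]
      rw [coe_mul, h.π_mul _ (hQ w) _ (hQ e), (h.π_eq_zero (hQ e)).2 (hE he).2, add_zero, πw])
    (fun w hw => by
      obtain ⟨a, ha, b, hb, e⟩ := AddSubgroup.mem_sup.1 ((QuotientAddGroup.eq_zero_iff _).1 hw)
      obtain ⟨k, hk, e'⟩ := (h.mem_R1 hg).1 ha
      have h1 : w.1 = g * (Y w * k) * g⁻¹ * (Y w * k)⁻¹ * Φ.ι b := by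
        rw [ANI.s_mul_K h hg (hY w) hk, ← e', mul_assoc, ← h.ι_add, e, ← hc w]
      have h2 := hz _ (mul_mem (hY w) (h.K_le g hk)) (by
        rw [eq_mul_inv_of_mul_eq h1.symm]
        exact mul_mem w.2 (inv_mem (hE hb).1))
      rw [h2, one_mul] at h1
      show w.1 ∈ E0
      rw [h1]; exact hb)
  rw [Nat.card_congr (subgroupOfEquivOfLe (hE.trans inf_le_left)).toEquiv] at key
  have h1 := ANI.card_sup_le h (h.R1_le hg) (hE.trans inf_le_right)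
  rw [← hS] at h1
  rw [AddSubgroup.card_eq_card_quotient_mul_card_addSubgroup S, mul_pow, ← mul_assoc]
  exact Nat.mul_le_mul key (Nat.pow_le_pow_left h1 2)

end Sp

end Cfsg.Lib.FZ
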