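import Cfsg.Agent.FZ.LA1

/-!
# The special group `Q`: basic facts
-/

set_option autoImplicit false
set_option linter.unusedSectionVars false

namespace Cfsg.Lib.FZ

open Subgroup Cfsg.Lib.Trans Cfsg.Lib.Gold
open scoped commutatorElement

variable {G F V : Type*} [Group G] [Field F] [AddCommGroup V] [Module F V] [Finite G] [Finite F]
  [Finite V] {f : V →ₗ[F] V →ₗ[F] F} {qq : V → F} {d : ℕ} {Φ Φ' : Fl G F V}

namespace B1

theorem card_hom {A B : Type*} [Group A] [Group B] (φ : A →* B) :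
    Nat.card φ.range * Nat.card φ.ker = Nat.card A := by
  rw [card_eq_card_quotient_mul_card_subgroup φ.ker,
    Nat.card_congr (QuotientGroup.quotientKerEquivRange φ).toEquiv]

/-- `π` as a homomorphism on a subgroup of `Q`. -/
def πh (h : Sp f qq d Φ) (X : Subgroup G) (hX : X ≤ Φ.Q) : X →* Multiplicative V :=
  MonoidHom.mk' (fun u => Multiplicative.ofAdd (Φ.π u)) fun a b => by
    rw [← ofAdd_add, coe_mul, h.π_mul _ (hX a.2) _ (hX b.2)]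

theorem πh_eq_1' : type_of% @πh.eq_1 := @πh.eq_1

theorem πh_apply (h : Sp f qq d Φ) (X : Subgroup G) (hX : X ≤ Φ.Q) (u : X) :
    πh h X hX u = Multiplicative.ofAdd (Φ.π u) := rfl

end B1

namespace Sp
variable (h : Sp f qq d Φ) {g u w r v a x y : G} {X P Y : Subgroup G}
include h

theorem cn (g : G) : Sp f qq d (Φ.cn g) where
  d10 := h.d10
  two := h.two
  nd := h.nd
  qq_smul := h.qq_smul
  cV := h.cV
  ι_add a b := by
    simp only [Fl.cn_ι, h.ι_add]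
    group
  ι_inj a ha := by
    rw [Fl.cn_ι] at ha
    exact h.ι_inj a (by rw [← mul_left_cancel_iff (a := g), ← mul_right_cancel_iff (a := g⁻¹), ha]; group)
  ι_Q a := conj_mem_cj.2 (h.ι_Q a)
  π_mul u hu w hw := by
    simp only [Fl.cn_π]
    rw [← h.π_mul _ (mem_cj.1 hu) _ (mem_cj.1 hw)]
    congr 1
    group
  π_surj v := by
    obtain ⟨u, hu, rfl⟩ := h.π_surj v
    refine ⟨g * u * g⁻¹, conj_mem_cj.2 hu, ?_⟩
    rw [Fl.cn_π]
    congr 1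
    group
  π_ker u hu := by
    rw [Fl.cn_π, h.π_ker _ (mem_cj.1 hu)]
    refine exists_congr fun a => ?_
    rw [Fl.cn_ι]
    constructor
    · intro e
      rw [← e]
      group
    · intro e
      rw [e]
      group
  comm u hu w hw := by
    simp only [Fl.cn_π, Fl.cn_ι]
    rw [← h.comm _ (mem_cj.1 hu) _ (mem_cj.1 hw)]
    group
  sq u hu := by
    simp only [Fl.cn_π, Fl.cn_ι]
    rw [← h.sq _ (mem_cj.1 hu)]
    group

theorem ι_zero : Φ.ι 0 = 1 := by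
  have := h.ι_add 0 0
  rw [add_zero] at this
  exact mul_eq_left.1 this.symm

theorem b1_ι_mul_self (c : F) : Φ.ι c * Φ.ι c = 1 := by
  rw [← h.ι_add, ← two_mul, h.two, zero_mul, h.ι_zero]

theorem ι_injective : Function.Injective Φ.ι := by
  intro a b e
  have h1 : Φ.ι (a + b) = 1 := by rw [h.ι_add, e, h.b1_ι_mul_self]
  have h2 := h.ι_inj _ h1
  have h3 : b + b = 0 := by rw [← two_mul, h.two, zero_mul]
  exact add_right_cancel (h2.trans h3.symm)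

theorem mem_R : r ∈ Φ.R ↔ ∃ c, r = Φ.ι c := by
  constructor
  · intro hr
    induction hr using closure_induction with
    | mem x hx =>
      obtain ⟨c, rfl⟩ := hx
      exact ⟨c, rfl⟩
    | one => exact ⟨0, h.ι_zero.symm⟩
    | mul x y _ _ hx hy =>
      obtain ⟨c, rfl⟩ := hx
      obtain ⟨e, rfl⟩ := hy
      exact ⟨c + e, (h.ι_add c e).symm⟩
    | inv x _ hx =>
      obtain ⟨c, rfl⟩ := hx
      exact ⟨c, inv_eq_of_sq (h.b1_ι_mul_self c)⟩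
  · rintro ⟨c, rfl⟩
    exact Φ.ι_mem c

theorem R_le_Q : Φ.R ≤ Φ.Q := by
  intro r hr
  obtain ⟨c, rfl⟩ := h.mem_R.1 hr
  exact h.ι_Q c

theorem R_sq (hr : r ∈ Φ.R) : r * r = 1 := by
  obtain ⟨c, rfl⟩ := h.mem_R.1 hr
  exact h.b1_ι_mul_self c

theorem π_eq_zero (hu : u ∈ Φ.Q) : Φ.π u = 0 ↔ u ∈ Φ.R := (h.π_ker u hu).trans h.mem_R.symm

theorem b1_π_ι (c : F) : Φ.π (Φ.ι c) = 0 := (h.π_ker _ (h.ι_Q c)).2 ⟨c, rfl⟩

theorem commute_iff (hu : u ∈ Φ.Q) (hw : w ∈ Φ.Q) : Commute u w ↔ f (Φ.π u) (Φ.π w) = 0 := by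
  rw [← commutatorElement_eq_one_iff_commute, commutatorElement_def, h.comm u hu w hw]
  exact ⟨h.ι_inj _, fun e => by rw [e, h.ι_zero]⟩

theorem R_le_Cs : Φ.R ≤ Cs Φ.Q := by
  intro r hr
  refine mem_Cs.2 fun u hu => ?_
  refine ((h.commute_iff hu (h.R_le_Q hr)).2 ?_).eq
  rw [(h.π_eq_zero (h.R_le_Q hr)).2 hr, map_zero]

theorem Q_le_Cs : Φ.Q ≤ Cs Φ.R := le_Cs_comm.1 h.R_le_Cs

theorem π_one : Φ.π 1 = 0 := (h.π_eq_zero (one_mem _)).2 (one_mem _)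

theorem alt : Alt f where
  two := h.two
  alt v := by
    obtain ⟨u, hu, rfl⟩ := h.π_surj v
    exact (h.commute_iff hu hu).1 (Commute.refl u)
  nd := h.nd

theorem π_inv (hu : u ∈ Φ.Q) : Φ.π u⁻¹ = Φ.π u := by
  have h1 := h.π_mul _ (inv_mem hu) _ hu
  rw [inv_mul_cancel, h.π_one] at h1
  exact add_right_cancel (h1.symm.trans (h.alt.add_self _).symm)

theorem π_eq_iff (hu : u ∈ Φ.Q) (hw : w ∈ Φ.Q) : Φ.π u = Φ.π w ↔ u * w⁻¹ ∈ Φ.R := by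
  rw [← h.π_eq_zero (mul_mem hu (inv_mem hw)), h.π_mul _ hu _ (inv_mem hw), h.π_inv hw]
  constructor
  · intro e
    rw [e, h.alt.add_self]
  · intro e
    exact add_right_cancel (e.trans (h.alt.add_self _).symm)

theorem qq_zero : qq 0 = 0 := by
  have := h.qq_smul 0 0
  rwa [zero_smul, zero_pow two_ne_zero, zero_mul] at this

theorem pol (v w : V) : qq (v + w) = qq v + qq w + f v w := by
  obtain ⟨a, ha, rfl⟩ := h.π_surj v
  obtain ⟨b, hb, rfl⟩ := h.π_surj w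
  apply h.ι_injective
  rw [← h.π_mul a ha b hb, ← h.sq _ (mul_mem ha hb), add_comm, h.ι_add, h.ι_add,
    ← h.comm a ha b hb, ← h.sq b hb]
  have h1 : b * Φ.ι (qq (Φ.π a)) = Φ.ι (qq (Φ.π a)) * b :=
    mem_Cs.1 (h.R_le_Cs (Φ.ι_mem _)) b hb
  calc a * b * (a * b) = a * b * a⁻¹ * b⁻¹ * (b * (a * a) * b) := by group
    _ = _ := by rw [h.sq a ha, h1, mul_assoc (Φ.ι _)]

theorem sq_iff (hu : u ∈ Φ.Q) : u * u = 1 ↔ qq (Φ.π u) = 0 := by
  rw [h.sq u hu]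
  exact ⟨h.ι_inj _, fun e => by rw [e, h.ι_zero]⟩

theorem comm_mem (hu : u ∈ Φ.Q) (hw : w ∈ Φ.Q) : u * w * u⁻¹ * w⁻¹ ∈ Φ.R := by
  rw [h.comm u hu w hw]
  exact Φ.ι_mem _

theorem sq_mem (hu : u ∈ Φ.Q) : u * u ∈ Φ.R := by
  rw [h.sq u hu]
  exact Φ.ι_mem _

theorem zQ (hu : u ∈ Φ.Q) (hc : u ∈ Cs Φ.Q) : u ∈ Φ.R := by
  refine (h.π_eq_zero hu).1 (h.nd _ fun z => ?_)
  obtain ⟨w, hw, rfl⟩ := h.π_surj z
  exact (h.commute_iff hu hw).1 (mem_Cs.1 hc w hw).symm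

theorem b1_R_eq_inf : Φ.R = Φ.Q ⊓ Cs Φ.Q :=
  le_antisymm (le_inf h.R_le_Q h.R_le_Cs) fun _ hu => h.zQ hu.1 hu.2

theorem Ns_le : Ns Φ.Q ≤ Ns Φ.R := by
  rw [h.b1_R_eq_inf]
  exact le_Ns_inf le_rfl (le_Ns_Cs le_rfl)

theorem pow4 (hu : u ∈ Φ.Q) : u ^ 4 = 1 := by
  rw [← h.R_sq (h.sq_mem hu)]
  simp only [pow_succ, pow_zero, one_mul, mul_assoc]

theorem two_Q : IsPGroup 2 Φ.Q := fun u => ⟨2, Subtype.ext (h.pow4 u.2)⟩

theorem two_le : 2 ≤ Nat.card F := Finite.one_lt_card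

theorem card_R : Nat.card Φ.R = Nat.card F := by
  refine (Nat.card_congr (Equiv.ofBijective (fun c => (⟨Φ.ι c, Φ.ι_mem c⟩ : Φ.R)) ⟨?_, ?_⟩)).symm
  · intro a b e
    exact h.ι_injective (congrArg Subtype.val e)
  · rintro ⟨r, hr⟩
    obtain ⟨c, rfl⟩ := h.mem_R.1 hr
    exact ⟨c, rfl⟩

theorem mem_bar {z : V} : z ∈ Φ.bar X ↔ ∃ u ∈ X, u ∈ Φ.Q ∧ Φ.π u = z := by
  constructor
  · intro hz
    induction hz using AddSubgroup.closure_induction with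
    | mem x hx => exact hx
    | zero => exact ⟨1, one_mem _, one_mem _, h.π_one⟩
    | add x y _ _ hx hy =>
      obtain ⟨a, ha, ha', rfl⟩ := hx
      obtain ⟨b, hb, hb', rfl⟩ := hy
      exact ⟨a * b, mul_mem ha hb, mul_mem ha' hb', h.π_mul a ha' b hb'⟩
    | neg x _ hx =>
      obtain ⟨a, ha, ha', rfl⟩ := hx
      exact ⟨a, ha, ha', eq_neg_of_add_eq_zero_left (h.alt.add_self _)⟩
  · intro hz
    exact AddSubgroup.subset_closure hz

theorem π_mem_bar (hX : Φ.R ≤ X) (hu : u ∈ Φ.Q) : Φ.π u ∈ Φ.bar X ↔ u ∈ X := by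
  rw [h.mem_bar]
  constructor
  · rintro ⟨w, hw, hw', e⟩
    have h1 := hX ((h.π_eq_iff hu hw').1 e.symm)
    simpa using mul_mem h1 hw
  · intro hx
    exact ⟨u, hx, hu, rfl⟩

theorem card_bar (X : Subgroup G) :
    Nat.card (Φ.bar X) * Nat.card ↥(X ⊓ Φ.R) = Nat.card ↥(X ⊓ Φ.Q) := by
  rw [← B1.card_hom (B1.πh h (X ⊓ Φ.Q) inf_le_right)]
  congr 1
  · refine Nat.card_congr (Equiv.subtypeEquiv Multiplicative.ofAdd fun z => ?_)
    rw [h.mem_bar]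
    constructor
    · rintro ⟨u, hu, hu', rfl⟩
      exact ⟨⟨u, hu, hu'⟩, rfl⟩
    · rintro ⟨⟨u, hu, hu'⟩, e⟩
      exact ⟨u, hu, hu', Multiplicative.ofAdd.injective e⟩
  · have e : (B1.πh h (X ⊓ Φ.Q) inf_le_right).ker = (X ⊓ Φ.R).subgroupOf (X ⊓ Φ.Q) := by
      ext u
      rw [MonoidHom.mem_ker, B1.πh_apply, ofAdd_eq_one, h.π_eq_zero u.2.2, mem_subgroupOf, mem_inf]
      exact ⟨fun hu => ⟨u.2.1, hu⟩, fun hu => hu.2⟩
    rw [e]
    exact (Nat.card_congr (subgroupOfEquivOfLe (inf_le_inf_left X h.R_le_Q)).toEquiv).symm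

theorem card_bar' (h1 : Φ.R ≤ X) (h2 : X ≤ Φ.Q) : Nat.card F * Nat.card (Φ.bar X) = Nat.card X := by
  have := h.card_bar X
  rwa [inf_eq_right.2 h1, inf_eq_left.2 h2, h.card_R, mul_comm] at this

theorem b1_bar_Q : Φ.bar Φ.Q = ⊤ := by
  refine eq_top_iff.2 fun z _ => ?_
  obtain ⟨u, hu, rfl⟩ := h.π_surj z
  exact h.mem_bar.2 ⟨u, hu, hu, rfl⟩

theorem b1_card_Q' : Nat.card Φ.Q = Nat.card F * Nat.card V := by
  rw [← h.card_bar' h.R_le_Q le_rfl, h.b1_bar_Q, AddSubgroup.card_top]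

theorem card_Q : Nat.card Φ.Q = Nat.card F ^ (2 * d + 1) := by
  rw [h.b1_card_Q', h.cV, pow_succ']

theorem b1_bar_mono (hXY : X ≤ Y) : Φ.bar X ≤ Φ.bar Y := by
  intro z hz
  obtain ⟨u, hu, hu', rfl⟩ := h.mem_bar.1 hz
  exact h.mem_bar.2 ⟨u, hXY hu, hu', rfl⟩

theorem bar_sup_R (hX : X ≤ Φ.Q) : Φ.bar (X ⊔ Φ.R) = Φ.bar X := by
  refine le_antisymm (fun z hz => ?_) (h.b1_bar_mono le_sup_left)
  obtain ⟨u, hu, hu', rfl⟩ := h.mem_bar.1 hz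
  have key : ∀ u ∈ X ⊔ Φ.R, u ∈ Φ.Q ∧ Φ.π u ∈ Φ.bar X := by
    intro u hu
    rw [sup_eq_closure] at hu
    induction hu using closure_induction with
    | mem x hx =>
      rcases hx with hx | hx
      · exact ⟨hX hx, h.mem_bar.2 ⟨x, hx, hX hx, rfl⟩⟩
      · exact ⟨h.R_le_Q hx, by rw [(h.π_eq_zero (h.R_le_Q hx)).2 hx]; exact zero_mem _⟩
    | one => exact ⟨one_mem _, by rw [h.π_one]; exact zero_mem _⟩
    | mul x y _ _ hx hy =>
      exact ⟨mul_mem hx.1 hy.1, by rw [h.π_mul x hx.1 y hy.1]; exact add_mem hx.2 hy.2⟩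
    | inv x _ hx => exact ⟨inv_mem hx.1, by rw [h.π_inv hx.1]; exact hx.2⟩
  exact (key u hu).2

theorem b1_card_le_bar (hX : X ≤ Φ.Q) : Nat.card X ≤ Nat.card F * Nat.card (Φ.bar X) := by
  have h1 := h.card_bar X
  rw [inf_eq_left.2 hX] at h1
  rw [← h1, mul_comm, ← h.card_R]
  exact Nat.mul_le_mul_right _ (Subgroup.card_le_of_le inf_le_right)

theorem onto (hv : v ∈ Φ.Q) (hR : v ∉ Φ.R) (hr : r ∈ Φ.R) :
    ∃ u ∈ Φ.Q, u * v * u⁻¹ * v⁻¹ = r := by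
  obtain ⟨c, rfl⟩ := h.mem_R.1 hr
  have h1 : ¬ ∀ z, f (Φ.π v) z = 0 := fun e => hR ((h.π_eq_zero hv).1 (h.nd _ e))
  obtain ⟨z, hz⟩ := not_forall.1 h1
  obtain ⟨u, hu, e⟩ := h.π_surj ((c / f (Φ.π v) z) • z)
  refine ⟨u, hu, ?_⟩
  rw [h.comm u hu v hv, e, map_smul, LinearMap.smul_apply, smul_eq_mul, h.alt.symm z,
    div_mul_cancel₀ _ hz]

theorem card_C1 (hv : v ∈ Φ.Q) : Nat.card Φ.Q ≤ Nat.card F * Nat.card ↥(Φ.Q ⊓ C1 v) := by
  let φ : Φ.Q →* Multiplicative F :=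
    MonoidHom.mk' (fun u => Multiplicative.ofAdd (f (Φ.π u) (Φ.π v))) fun a b => by
      rw [← ofAdd_add, coe_mul, h.π_mul _ a.2 _ b.2, map_add, LinearMap.add_apply]
  have e : φ.ker = (Φ.Q ⊓ C1 v).subgroupOf Φ.Q := by
    ext u
    rw [MonoidHom.mem_ker, mem_subgroupOf, mem_inf, mem_C1]
    change Multiplicative.ofAdd (f (Φ.π u) (Φ.π v)) = 1 ↔ _
    rw [ofAdd_eq_one, ← h.commute_iff u.2 hv]
    exact ⟨fun hu => ⟨u.2, hu⟩, fun hu => hu.2⟩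
  rw [← B1.card_hom φ, e, Nat.card_congr (subgroupOfEquivOfLe inf_le_left).toEquiv]
  exact Nat.mul_le_mul_right _ (card_le_card_group φ.range)

theorem comm_big (hX : X ≤ Φ.Q) (hc : Nat.card F ^ (d + 1) < Nat.card X) : Φ.R ≤ ⁅X, X⁆ := by
  by_contra hn
  let S : AddSubgroup F :=
    { carrier := {c | Φ.ι c ∈ ⁅X, X⁆}
      zero_mem' := by
        change Φ.ι 0 ∈ ⁅X, X⁆
        rw [h.ι_zero]
        exact one_mem _
      add_mem' := fun {a b} ha hb => by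
        change Φ.ι (a + b) ∈ ⁅X, X⁆
        rw [h.ι_add]
        exact mul_mem ha hb
      neg_mem' := fun {a} ha => by
        have e : -a = a := by
          rw [neg_eq_iff_add_eq_zero, ← two_mul, h.two, zero_mul]
        rw [e]
        exact ha }
  have hS : S ≠ ⊤ := by
    intro e
    refine hn fun r hr => ?_
    obtain ⟨c, rfl⟩ := h.mem_R.1 hr
    have : c ∈ S := e ▸ AddSubgroup.mem_top c
    exact this
  obtain ⟨lam, hl, hlam⟩ := exists_lam h.two hS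
  have h1 : Nat.card (Φ.bar X) ^ 2 ≤ Nat.card V := by
    refine h.alt.iso_le hl fun x hx y hy => hlam _ ?_
    obtain ⟨a, ha, ha', rfl⟩ := h.mem_bar.1 hx
    obtain ⟨b, hb, hb', rfl⟩ := h.mem_bar.1 hy
    change Φ.ι _ ∈ ⁅X, X⁆
    rw [← h.comm a ha' b hb']
    exact commutator_mem_commutator ha hb
  rw [h.cV, mul_comm, pow_mul] at h1
  have h2 := (Nat.pow_le_pow_iff_left two_ne_zero).1 h1
  have h3 := (h.b1_card_le_bar hX).trans (Nat.mul_le_mul_left _ h2)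
  rw [← pow_succ'] at h3
  exact absurd hc (not_lt.2 h3)

theorem cent_le (hX : X ≤ Φ.Q) :
    Nat.card ↥(Φ.Q ⊓ Cs X) * Nat.card X ≤ Nat.card F * Nat.card Φ.Q := by
  obtain ⟨lam, hl, -⟩ := exists_lam h.two (bot_ne_top (α := AddSubgroup F))
  have h1 : Φ.bar (Φ.Q ⊓ Cs X) ≤ pp f lam (Φ.bar X) := by
    intro z hz
    obtain ⟨a, ha, ha', rfl⟩ := h.mem_bar.1 hz
    refine mem_pp.2 fun x hx => ?_
    obtain ⟨b, hb, hb', rfl⟩ := h.mem_bar.1 hx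
    rw [(h.commute_iff ha' hb').1 (mem_Cs.1 ha.2 b hb).symm, map_zero]
  have h2 := AddSubgroup.card_le_of_le h1
  have h3 := h.alt.card_pp hl (Φ.bar X)
  calc Nat.card ↥(Φ.Q ⊓ Cs X) * Nat.card X
      ≤ Nat.card F * Nat.card (pp f lam (Φ.bar X)) * (Nat.card F * Nat.card (Φ.bar X)) :=
        Nat.mul_le_mul ((h.b1_card_le_bar inf_le_left).trans (Nat.mul_le_mul_left _ h2))
          (h.b1_card_le_bar hX)
    _ = Nat.card F * Nat.card Φ.Q := by rw [h.b1_card_Q', ← h3]; ring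

end Sp

end Cfsg.Lib.FZ
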