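import Cfsg.Agent.FZ.B1
import Cfsg.Agent.Known.FinFieldAut

/-!
# The normaliser of the special group acts semilinearly
-/

set_option autoImplicit false
set_option linter.unusedSectionVars false

namespace Cfsg.Lib.FZ

open Subgroup Cfsg.Lib.Trans Cfsg.Lib.Gold
open scoped commutatorElement

namespace B2

theorem semi_of {F V : Type*} [Field F] [AddCommGroup V] [Module F V] [Finite F] [Nontrivial V]
    {f : V →ₗ[F] V →ₗ[F] F} (nd : ∀ v, (∀ w, f v w = 0) → v = 0) (φ : V ≃+ V) (ψ : F →+ F)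
    (hi : Function.Injective ψ) (h : ∀ z z', f (φ z) (φ z') = ψ (f z z')) :
    ∃ (σ : F ≃+* F) (l : F), l ≠ 0 ∧ (∀ c, ψ c = l * σ c) ∧ ∀ (c : F) z, φ (c • z) = σ c • φ z := by
  obtain ⟨v, w, e⟩ : ∃ v w, f v w = 1 := by
    obtain ⟨v, hv⟩ := exists_ne (0 : V)
    obtain ⟨w, hw⟩ := not_forall.1 (mt (nd v) hv)
    exact ⟨v, (f v w)⁻¹ • w, by rw [map_smul, smul_eq_mul, inv_mul_cancel₀ hw]⟩
  obtain ⟨τ, hτ⟩ : ∃ τ : F → F, ∀ c x, ψ (c * x) = ψ x * τ c := by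
    refine ⟨fun c => f (φ (c • φ.symm v)) w, fun c x => ?_⟩
    have k : f (φ.symm v) (φ.symm (ψ x • w)) = x := hi (by
      rw [← h, φ.apply_symm_apply, φ.apply_symm_apply, map_smul, e, smul_eq_mul, mul_one])
    have k1 := h (c • φ.symm v) (φ.symm (ψ x • w))
    rw [φ.apply_symm_apply, map_smul, map_smul f, LinearMap.smul_apply, k] at k1
    exact k1.symm
  have l0 : ψ 1 ≠ 0 := fun k => one_ne_zero (hi (k.trans ψ.map_zero.symm))
  have h1 : ∀ c, ψ c = ψ 1 * τ c := fun c => by rw [← hτ, mul_one]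
  let σ : F →+* F :=
    { toFun := τ
      map_one' := mul_left_cancel₀ l0 (by rw [← h1, mul_one])
      map_mul' := fun a b => mul_left_cancel₀ l0 (by rw [← h1, hτ, h1 b]; ring)
      map_zero' := mul_left_cancel₀ l0 (by rw [← h1, map_zero, mul_zero])
      map_add' := fun a b => mul_left_cancel₀ l0 (by rw [mul_add, ← h1, ← h1, ← h1, map_add]) }
  refine ⟨RingEquiv.ofBijective σ (Finite.injective_iff_bijective.1 σ.injective), ψ 1, l0, h1,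
    fun c z => sub_eq_zero.1 (nd _ fun w => ?_)⟩
  obtain ⟨w, rfl⟩ := φ.surjective w
  rw [map_sub, LinearMap.sub_apply, map_smul f, LinearMap.smul_apply, h, h, map_smul f,
    LinearMap.smul_apply, smul_eq_mul, smul_eq_mul, hτ, mul_comm]
  exact sub_self _

theorem card_eq {G A : Type*} [Group G] [Group A] {P C : Subgroup G} (θ : P →* A)
    (h : ∀ x : P, θ x = 1 ↔ (x : G) ∈ C) : Nat.card P = Nat.card θ.range * Nat.card ↥(P ⊓ C) := by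
  rw [card_eq_card_quotient_mul_card_subgroup θ.ker,
    Nat.card_congr (QuotientGroup.quotientKerEquivRange θ).toEquiv,
    ← Nat.card_congr (subgroupOfEquivOfLe (inf_le_left : P ⊓ C ≤ P)).toEquiv, inf_subgroupOf_left,
    show θ.ker = C.subgroupOf P from Subgroup.ext h]

theorem range_dvd {G A : Type*} [Group G] [Group A] [IsCyclic A] (θ : G →* A) {n : ℕ}
    (h : ∀ x, θ (x ^ n) = 1) : Nat.card θ.range ∣ n := by
  rw [← IsCyclic.exponent_eq_card]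
  refine Monoid.exponent_dvd_of_forall_pow_eq_one ?_
  rintro ⟨_, x, rfl⟩
  exact Subtype.ext ((map_pow θ x n).symm.trans (h x))

end B2

variable {G F V : Type*} [Group G] [Field F] [AddCommGroup V] [Module F V] [Finite G] [Finite F]
  [Finite V] {f : V →ₗ[F] V →ₗ[F] F} {qq : V → F} {d : ℕ} {Φ Φ' : Fl G F V}

namespace Sp
variable (h : Sp f qq d Φ) {g u w r v a x y : G} {X P Y : Subgroup G}
include h

theorem act (hg : g ∈ Ns Φ.Q) : ∃ (φ : V ≃+ V) (σ : F ≃+* F) (l : F), l ≠ 0 ∧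
    (∀ u ∈ Φ.Q, φ (Φ.π u) = Φ.π (g * u * g⁻¹)) ∧ (∀ c, g * Φ.ι c * g⁻¹ = Φ.ι (l * σ c)) ∧
    (∀ (c : F) z, φ (c • z) = σ c • φ z) ∧ (∀ z z', f (φ z) (φ z') = l * σ (f z z')) ∧
    ∀ z, qq (φ z) = l * σ (qq z) := by
  choose s hs es using h.π_surj
  have cq : ∀ g ∈ Ns Φ.Q, ∀ u ∈ Φ.Q, g * u * g⁻¹ ∈ Φ.Q := fun g hg u hu =>
    (mem_normalizer_iff.1 hg u).1 hu
  have cr : ∀ g ∈ Ns Φ.Q, ∀ u ∈ Φ.R, g * u * g⁻¹ ∈ Φ.R := fun g hg u hu =>
    (mem_normalizer_iff.1 (h.Ns_le hg) u).1 hu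
  have k : ∀ g ∈ Ns Φ.Q, ∀ u ∈ Φ.Q, Φ.π (g * s (Φ.π u) * g⁻¹) = Φ.π (g * u * g⁻¹) :=
    fun g hg u hu => (h.π_eq_iff (cq g hg _ (hs _)) (cq g hg u hu)).2 (by
      simpa [mul_assoc] using cr g hg _ ((h.π_eq_iff (hs _) hu).1 (es _)))
  have k' : ∀ g ∈ Ns Φ.Q, ∀ z, Φ.π (g⁻¹ * s (Φ.π (g * s z * g⁻¹)) * g⁻¹⁻¹) = z := fun g hg z => by
    rw [k _ (inv_mem hg) _ (cq g hg _ (hs z))]
    simpa [mul_assoc] using es z
  let φ : V ≃+ V :=
    { toFun := fun z => Φ.π (g * s z * g⁻¹)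
      invFun := fun z => Φ.π (g⁻¹ * s z * g⁻¹⁻¹)
      left_inv := k' g hg
      right_inv := fun z => by simpa using k' _ (inv_mem hg) z
      map_add' := fun z z' => by
        have e := k g hg _ (mul_mem (hs z) (hs z'))
        rw [h.π_mul _ (hs z) _ (hs z'), es, es] at e
        rw [e, ← h.π_mul _ (cq g hg _ (hs z)) _ (cq g hg _ (hs z')), conj_mul] }
  choose ψ hψ using fun c => h.mem_R.1 (cr g hg _ (Φ.ι_mem c))
  have e1 : ∀ z z', f (φ z) (φ z') = ψ (f z z') := fun z z' => h.ι_injective (by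
    have e := h.comm _ (hs z) _ (hs z')
    rw [es, es] at e
    rw [← hψ, ← e]
    exact (h.comm _ (cq g hg _ (hs z)) _ (cq g hg _ (hs z'))).symm.trans (by group))
  have e2 : ∀ z, qq (φ z) = ψ (qq z) := fun z => h.ι_injective (by
    have e := h.sq _ (hs z)
    rw [es] at e
    rw [← hψ, ← e]
    exact (h.sq _ (cq g hg _ (hs z))).symm.trans conj_mul)
  have : Nontrivial V := Finite.one_lt_card_iff_nontrivial.1 (by
    rw [h.cV]
    exact Nat.one_lt_pow (by have := h.d10; omega) h.two_le)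
  obtain ⟨σ, l, l0, e3, e4⟩ := B2.semi_of h.nd φ (AddMonoidHom.mk' ψ fun a b => h.ι_injective (by
      rw [h.ι_add, ← hψ, ← hψ, ← hψ, h.ι_add, conj_mul]))
    (fun a b e => h.ι_injective (by
      have k := (hψ a).trans ((congrArg Φ.ι e).trans (hψ b).symm)
      simpa using k)) e1
  exact ⟨φ, σ, l, l0, k g hg, fun c => (hψ c).trans (congrArg Φ.ι (e3 c)), e4,
    fun z z' => (e1 z z').trans (e3 _), fun z => (e2 z).trans (e3 _)⟩

theorem mem_Cs_R : g ∈ Cs Φ.R ↔ ∀ c, g * Φ.ι c * g⁻¹ = Φ.ι c :=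
  ⟨fun k c => mul_inv_eq_iff_eq_mul.2 (mem_Cs.1 k _ (Φ.ι_mem c)).symm, fun k => mem_Cs.2 fun r hr => by
    obtain ⟨c, rfl⟩ := h.mem_R.1 hr
    exact (mul_inv_eq_iff_eq_mul.1 (k c)).symm⟩

theorem lin (hg : g ∈ Ns Φ.Q) (hR : g ∈ Cs Φ.R) : ∃ φ : V ≃ₗ[F] V,
    (∀ u ∈ Φ.Q, φ (Φ.π u) = Φ.π (g * u * g⁻¹)) ∧ (∀ u ∈ Φ.Q, φ.symm (Φ.π u) = Φ.π (g⁻¹ * u * g)) ∧
    (∀ z z', f (φ z) (φ z') = f z z') ∧ ∀ z, qq (φ z) = qq z := by
  obtain ⟨φ, σ, l, -, e1, e2, e3, e4, e5⟩ := h.act hg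
  have k : ∀ c, l * σ c = c := fun c => h.ι_injective ((e2 c).symm.trans (h.mem_Cs_R.1 hR c))
  obtain rfl : l = 1 := by simpa using k 1
  refine ⟨φ.toLinearEquiv fun c z => by rw [e3, ← one_mul (σ c), k], e1, fun u hu => ?_,
    fun z z' => (e4 z z').trans (k _), fun z => (e5 z).trans (k _)⟩
  rw [LinearEquiv.symm_apply_eq]
  refine .symm ((e1 _ ((mem_normalizer_iff''.1 hg u).1 hu)).trans ?_)
  simp [mul_assoc]

theorem Cs_of {l : F} (e : ∀ c, g * Φ.ι c * g⁻¹ = Φ.ι (l * c)) (h2 : ∃ k : ℕ, g ^ 2 ^ k = 1) :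
    g ∈ Cs Φ.R := by
  obtain ⟨k, hk⟩ := h2
  have h1 : ∀ n : ℕ, g ^ n * Φ.ι 1 * (g ^ n)⁻¹ = Φ.ι (l ^ n) := fun n => by
    induction n with
    | zero => simp
    | succ n ih => rw [pow_succ' l, ← e, ← ih, pow_succ']; group
  have h3 := h1 (2 ^ k)
  rw [hk, one_mul, inv_one, mul_one] at h3
  have : CharP F 2 := CharTwo.of_one_ne_zero_of_two_eq_zero one_ne_zero h.two
  have h4 : (l - 1) ^ 2 ^ k = 0 := by rw [sub_pow_char_pow, ← h.ι_injective h3, one_pow, sub_self]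
  obtain rfl := sub_eq_zero.1 (pow_eq_zero_iff (by positivity) |>.1 h4)
  exact h.mem_Cs_R.2 fun c => by rw [e, one_mul]

theorem semi (hg : g ∈ Ns Φ.Q) (hR : g ∉ Cs Φ.R) (h2 : ∃ k : ℕ, g ^ 2 ^ k = 1) :
    ∃ (φ : V ≃+ V) (σ : F ≃+* F) (l c : F), σ c ≠ c ∧ (∀ u ∈ Φ.Q, φ (Φ.π u) = Φ.π (g * u * g⁻¹)) ∧
    (∀ c, g * Φ.ι c * g⁻¹ = Φ.ι (l * σ c)) ∧ ∀ (c : F) z, φ (c • z) = σ c • φ z := by
  obtain ⟨φ, σ, l, -, e1, e2, e3, -⟩ := h.act hg
  obtain ⟨c, hc⟩ : ∃ c, σ c ≠ c := by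
    by_contra k
    push Not at k
    exact hR (h.Cs_of (fun c => by rw [e2, k]) h2)
  exact ⟨φ, σ, l, c, hc, e1, e2, e3⟩

/-- The field automorphism induced by an element of a `2`-group normalising `Q`. -/
theorem exists_θ (hP : IsPGroup 2 P) (hN : P ≤ Ns Φ.Q) :
    ∃ θ : P →* RingAut F, ∀ x : P, θ x = 1 ↔ (x : G) ∈ Cs Φ.R := by
  choose φ σ l l0 _ e _ using fun x : P => h.act (hN x.2)
  have un : ∀ (x : P) (τ : RingAut F) (m : F), (∀ c, x * Φ.ι c * (x : G)⁻¹ = Φ.ι (m * τ c)) →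
      σ x = τ := fun x τ m k => by
    have k1 : ∀ c, l x * σ x c = m * τ c := fun c => h.ι_injective ((e x c).symm.trans (k c))
    obtain rfl : l x = m := by simpa using k1 1
    exact RingEquiv.ext fun c => mul_left_cancel₀ (l0 x) (k1 c)
  refine ⟨MonoidHom.mk' σ fun x y => un _ _ (l x * σ x (l y)) fun c => ?_, fun x => ⟨fun k => ?_,
    fun k => un x 1 1 fun c => (h.mem_Cs_R.1 k c).trans (congrArg Φ.ι (one_mul c).symm)⟩⟩
  · calc _ = x * (y * Φ.ι c * (y : G)⁻¹) * (x : G)⁻¹ := by simp [mul_assoc]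
      _ = _ := by rw [e, e, map_mul, mul_assoc]; rfl
  · refine h.Cs_of (l := l x) (fun c => ?_) ((hP x).imp fun _ => congrArg Subtype.val)
    rw [e, show σ x = 1 from k]
    rfl

theorem cyc0 (hP : IsPGroup 2 P) (hN : P ≤ Ns Φ.Q) : ⁅P, P⁆ ≤ Cs Φ.R := by
  obtain ⟨θ, hθ⟩ := h.exists_θ hP hN
  have := Known.isCyclic_ringAut (F := F)
  refine commutator_le.2 fun x hx y hy => (hθ ⁅(⟨x, hx⟩ : P), ⟨y, hy⟩⁆).1 ?_
  rw [map_commutatorElement, commutatorElement_eq_one_iff_mul_comm]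
  exact IsCyclic.commGroup.mul_comm _ _

theorem cyc2 (hP : IsPGroup 2 P) (hN : P ≤ Ns Φ.Q) (hs : ∀ x ∈ P, x * x ∈ Cs Φ.R) :
    Nat.card P ≤ 2 * Nat.card ↥(P ⊓ Cs Φ.R) ∧
      2 * Nat.card P ≤ Nat.card F * Nat.card ↥(P ⊓ Cs Φ.R) := by
  obtain ⟨θ, hθ⟩ := h.exists_θ hP hN
  have := Known.isCyclic_ringAut (F := F)
  have e := B2.range_dvd θ (n := 2) fun x => (hθ _).2 (by rw [pow_two]; exact hs x x.2)
  rw [B2.card_eq θ hθ, ← mul_assoc]
  refine ⟨Nat.mul_le_mul_right _ (Nat.le_of_dvd two_pos e), Nat.mul_le_mul_right _ ?_⟩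
  rcases (Nat.dvd_prime Nat.prime_two).1 e with k | k
  · rw [k]; exact h.two_le
  obtain ⟨⟨σ, m⟩, hσ⟩ := ne_bot_iff_exists_ne_one.1 (show θ.range ≠ ⊥ from fun e => by simp [e] at k)
  obtain ⟨c, hc⟩ := not_forall.1 fun e : ∀ c, σ c = c => hσ (Subtype.ext (RingEquiv.ext e))
  have c0 : c ≠ 0 := fun e => hc (by simp [e])
  have c1 : c ≠ 1 := fun e => hc (by simp [e])
  classical
  have := Fintype.ofFinite F
  rw [k, Nat.card_eq_fintype_card, show 2 * 2 = ({0, 1, c, σ c} : Finset F).card by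
    rw [Finset.card_insert_of_notMem (by simp [c0, c0.symm, eq_comm (a := (0 : F))]),
      Finset.card_insert_of_notMem (by simp [c1, c1.symm, eq_comm (a := (1 : F))]),
      Finset.card_pair (Ne.symm hc)]]
  exact Finset.card_le_univ _

theorem cyc2' (hP : IsPGroup 2 P) (hN : P ≤ Ns Φ.Q) (hY : Y ≤ P) (hs : ∀ x ∈ P, x * x ∈ Y) :
    Nat.card P ≤ 2 * Nat.card ↥(P ⊓ Cs Φ.R ⊔ Y) := by
  obtain ⟨θ, hθ⟩ := h.exists_θ hP hN
  have := Known.isCyclic_ringAut (F := F)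
  obtain ⟨⟨_, a, rfl⟩, ha⟩ := IsCyclic.exists_generator (α := θ.range)
  have le : P ⊓ Cs Φ.R ⊔ Y ≤ P := sup_le inf_le_left hY
  have k : ∀ x : P, (x : G) ∈ P ⊓ Cs Φ.R ⊔ Y ∨ ((a⁻¹ * x : P) : G) ∈ P ⊓ Cs Φ.R ⊔ Y := fun x => by
    obtain ⟨n, hn⟩ := ha ⟨θ x, x, rfl⟩
    have k1 : (((a ^ n)⁻¹ * x : P) : G) ∈ P ⊓ Cs Φ.R ⊔ Y := mem_sup_left ⟨Subtype.property _,
      (hθ _).1 (by rw [map_mul, map_inv, map_zpow, inv_mul_eq_one]; exact congrArg Subtype.val hn)⟩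
    have k2 : ∀ m : ℤ, ((a * a : P) : G) ^ m ∈ P ⊓ Cs Φ.R ⊔ Y := fun m =>
      zpow_mem (mem_sup_right (hs a a.2)) m
    obtain ⟨m, rfl | rfl⟩ := Int.even_or_odd' n
    · refine .inl ?_
      convert mul_mem (k2 m) k1 using 1
      simp only [coe_mul, coe_inv, coe_zpow, ← pow_two, ← zpow_natCast, ← zpow_mul]
      group
    · refine .inr ?_
      convert mul_mem (k2 m) k1 using 1
      simp only [coe_mul, coe_inv, coe_zpow, ← pow_two, ← zpow_natCast, ← zpow_mul]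
      group
  rw [show 2 = Nat.card Bool by simp, ← Nat.card_prod]
  refine Nat.card_le_card_of_surjective
    (fun z => if z.1 then a * inclusion le z.2 else inclusion le z.2) fun x => ?_
  rcases k x with k | k
  · exact ⟨(false, ⟨x, k⟩), rfl⟩
  · exact ⟨(true, ⟨_, k⟩), mul_inv_cancel_left a x⟩

theorem cyc4 (hN : P ≤ Ns Φ.Q) (hs : ∀ x ∈ P, x ^ 4 = 1) :
    Nat.card P ≤ 4 * Nat.card ↥(P ⊓ Cs Φ.R) := by
  obtain ⟨θ, hθ⟩ := h.exists_θ (fun x => ⟨2, Subtype.ext (hs x x.2)⟩) hN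
  have := Known.isCyclic_ringAut (F := F)
  have e := B2.range_dvd θ (n := 4) fun x => by rw [show x ^ 4 = 1 from Subtype.ext (hs x x.2), map_one]
  rw [B2.card_eq θ hθ]
  exact Nat.mul_le_mul_right _ (Nat.le_of_dvd (by decide) e)

end Sp

end Cfsg.Lib.FZ
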