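import Cfsg.Agent.FZ.B2

/-!
# The subgroups `K`, `W`, `R1`
-/

set_option autoImplicit false
set_option linter.unusedSectionVars false

namespace Cfsg.Lib.FZ

open Subgroup Cfsg.Lib.Trans Cfsg.Lib.Gold
open scoped commutatorElement

variable {G F V : Type*} [Group G] [Field F] [AddCommGroup V] [Module F V] [Finite G] [Finite F]
  [Finite V] {f : V →ₗ[F] V →ₗ[F] F} {qq : V → F} {d : ℕ} {Φ Φ' : Fl G F V}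

namespace Sp
variable (h : Sp f qq d Φ) {g u w r v a x y : G} {X P Y : Subgroup G}
include h

namespace B3

omit h in
theorem cj_mem {X : Subgroup G} (hg : g ∈ Ns X) (hu : u ∈ X) : g * u * g⁻¹ ∈ X :=
  (mem_normalizer_iff.1 hg u).1 hu

omit h in
theorem s_mem (hg : g ∈ Ns Φ.Q) (hu : u ∈ Φ.Q) : g * u * g⁻¹ * u⁻¹ ∈ Φ.Q :=
  mul_mem (cj_mem hg hu) (inv_mem hu)

theorem π_s (hg : g ∈ Ns Φ.Q) (hu : u ∈ Φ.Q) :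
    Φ.π (g * u * g⁻¹ * u⁻¹) = Φ.π (g * u * g⁻¹) - Φ.π u := by
  rw [h.π_mul _ (cj_mem hg hu) _ (inv_mem hu), h.π_inv hu, sub_eq_add_neg,
    neg_eq_of_add_eq_zero_left (h.alt.add_self _)]

theorem s_iff (hg : g ∈ Ns Φ.Q) (hu : u ∈ Φ.Q) :
    g * u * g⁻¹ * u⁻¹ ∈ Φ.R ↔ Φ.π (g * u * g⁻¹) = Φ.π u :=
  (h.π_eq_iff (cj_mem hg hu) hu).symm

/-- The preimage in `Q` of a subgroup of `V`. -/
def pre (Z : AddSubgroup V) : Subgroup G where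
  carrier := {u | u ∈ Φ.Q ∧ Φ.π u ∈ Z}
  one_mem' := ⟨one_mem _, h.π_one ▸ zero_mem _⟩
  mul_mem' ha hb := ⟨mul_mem ha.1 hb.1, h.π_mul _ ha.1 _ hb.1 ▸ add_mem ha.2 hb.2⟩
  inv_mem' ha := ⟨inv_mem ha.1, h.π_inv ha.1 ▸ ha.2⟩

theorem mem_pre {Z : AddSubgroup V} : u ∈ pre h Z ↔ u ∈ Φ.Q ∧ Φ.π u ∈ Z := Iff.rfl

theorem R_le_pre (Z : AddSubgroup V) : Φ.R ≤ pre h Z := fun _ hr =>
  ⟨h.R_le_Q hr, (h.π_eq_zero (h.R_le_Q hr)).2 hr ▸ zero_mem _⟩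

theorem bar_pre (Z : AddSubgroup V) : Φ.bar (pre h Z) = Z := by
  ext z
  rw [h.mem_bar]
  refine ⟨?_, fun hz => ?_⟩
  · rintro ⟨u, hu, -, rfl⟩
    exact hu.2
  · obtain ⟨u, hu, rfl⟩ := h.π_surj z
    exact ⟨u, ⟨hu, hz⟩, hu, rfl⟩

theorem exists_φ (hg : g ∈ Ns Φ.Q) :
    ∃ φ : V →+ V, ∀ u ∈ Φ.Q, φ (Φ.π u) = Φ.π (g * u * g⁻¹) := by
  obtain ⟨φ, -, -, -, h1, -⟩ := h.act hg
  exact ⟨φ, h1⟩

theorem K_eq (hg : g ∈ Ns Φ.Q) {φ : V →+ V} (hφ : ∀ u ∈ Φ.Q, φ (Φ.π u) = Φ.π (g * u * g⁻¹)) :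
    Φ.K g = pre h (φ - AddMonoidHom.id V).ker := by
  have : {u | u ∈ Φ.Q ∧ g * u * g⁻¹ * u⁻¹ ∈ Φ.R} = pre h (φ - AddMonoidHom.id V).ker := by
    ext u
    refine and_congr_right fun hu => ?_
    rw [s_iff h hg hu, ← hφ u hu, AddMonoidHom.mem_ker, AddMonoidHom.sub_apply,
      AddMonoidHom.id_apply, sub_eq_zero]
  rw [Fl.K, this, closure_eq]

theorem mem_pre_range (hg : g ∈ Ns Φ.Q) {φ : V →+ V}
    (hφ : ∀ u ∈ Φ.Q, φ (Φ.π u) = Φ.π (g * u * g⁻¹)) :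
    w ∈ pre h (φ - AddMonoidHom.id V).range ↔
      ∃ y ∈ Φ.Q, ∃ r ∈ Φ.R, w = g * y * g⁻¹ * y⁻¹ * r := by
  have k : ∀ y ∈ Φ.Q, (φ - AddMonoidHom.id V) (Φ.π y) = Φ.π (g * y * g⁻¹ * y⁻¹) := fun y hy => by
    rw [π_s h hg hy, ← hφ y hy]; rfl
  constructor
  · rintro ⟨hw, z, hz⟩
    obtain ⟨y, hy, rfl⟩ := h.π_surj z
    rw [k y hy, ← h.π_inv (s_mem hg hy), ← h.π_inv hw,
      h.π_eq_iff (inv_mem (s_mem hg hy)) (inv_mem hw), inv_inv] at hz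
    exact ⟨y, hy, _, hz, by group⟩
  · rintro ⟨y, hy, r, hr, rfl⟩
    exact mul_mem ⟨s_mem hg hy, _, k y hy⟩ (R_le_pre h _ hr)

theorem W_eq (hg : g ∈ Ns Φ.Q) {φ : V →+ V} (hφ : ∀ u ∈ Φ.Q, φ (Φ.π u) = Φ.π (g * u * g⁻¹)) :
    Φ.W g = pre h (φ - AddMonoidHom.id V).range := by
  refine le_antisymm (sup_le ((closure_le _).2 ?_) (R_le_pre h _)) fun w hw => ?_
  · rintro _ ⟨y, hy, rfl⟩
    exact (mem_pre_range h hg hφ).2 ⟨y, hy, 1, one_mem _, (mul_one _).symm⟩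
  · obtain ⟨y, hy, r, hr, rfl⟩ := (mem_pre_range h hg hφ).1 hw
    exact mul_mem (mem_sup_left (subset_closure ⟨y, hy, rfl⟩)) (mem_sup_right hr)

end B3

open B3

theorem mem_K (hg : g ∈ Ns Φ.Q) : u ∈ Φ.K g ↔ u ∈ Φ.Q ∧ g * u * g⁻¹ * u⁻¹ ∈ Φ.R := by
  obtain ⟨φ, hφ⟩ := exists_φ h hg
  rw [K_eq h hg hφ, mem_pre]
  refine and_congr_right fun hu => ?_
  rw [s_iff h hg hu, ← hφ u hu, AddMonoidHom.mem_ker, AddMonoidHom.sub_apply,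
    AddMonoidHom.id_apply, sub_eq_zero]

theorem K_le (g : G) : Φ.K g ≤ Φ.Q := (closure_le _).2 fun _ hu => hu.1

theorem R_le_K (hg : g ∈ Ns Φ.Q) : Φ.R ≤ Φ.K g := fun _ hr =>
  subset_closure ⟨h.R_le_Q hr, mul_mem (cj_mem (h.Ns_le hg) hr) (inv_mem hr)⟩

theorem C_le_K (g : G) : Φ.Q ⊓ C1 g ≤ Φ.K g := fun u hu => subset_closure ⟨hu.1, by
  rw [← mem_C1.1 hu.2, mul_inv_cancel_right, mul_inv_cancel]; exact one_mem _⟩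

theorem mem_W (hg : g ∈ Ns Φ.Q) :
    w ∈ Φ.W g ↔ ∃ y ∈ Φ.Q, ∃ r ∈ Φ.R, w = g * y * g⁻¹ * y⁻¹ * r := by
  obtain ⟨φ, hφ⟩ := exists_φ h hg
  rw [W_eq h hg hφ, mem_pre_range h hg hφ]

theorem W_le (hg : g ∈ Ns Φ.Q) : Φ.W g ≤ Φ.Q := by
  obtain ⟨φ, hφ⟩ := exists_φ h hg
  rw [W_eq h hg hφ]
  exact fun _ hw => hw.1

theorem R_le_W (g : G) : Φ.R ≤ Φ.W g := le_sup_right

/-- The commutator map on `K g`. -/
def B3.sg (hg : g ∈ Ns Φ.Q) : Φ.K g →* G := MonoidHom.mk' (fun y => g * y * g⁻¹ * (y : G)⁻¹)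
  fun y z => by
    have := mem_Cs.1 (h.R_le_Cs ((h.mem_K hg).1 z.2).2) y (h.K_le g y.2)
    simp only [coe_mul]
    calc g * (y * z) * g⁻¹ * ((y : G) * z)⁻¹
        = g * y * g⁻¹ * (y : G)⁻¹ * (y * (g * z * g⁻¹ * (z : G)⁻¹)) * (y : G)⁻¹ := by group
      _ = _ := by rw [this]; group

theorem B3.R1_eq (hg : g ∈ Ns Φ.Q) : Φ.R1 g = (B3.sg h hg).range := by
  have : {w | ∃ y ∈ Φ.K g, w = g * y * g⁻¹ * y⁻¹} = (B3.sg h hg).range := by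
    ext w
    exact ⟨fun ⟨y, hy, e⟩ => ⟨⟨y, hy⟩, e.symm⟩, fun ⟨y, e⟩ => ⟨y, y.2, e.symm⟩⟩
  rw [Fl.R1, this, closure_eq]

theorem mem_R1 (hg : g ∈ Ns Φ.Q) : w ∈ Φ.R1 g ↔ ∃ y ∈ Φ.K g, w = g * y * g⁻¹ * y⁻¹ := by
  rw [B3.R1_eq h hg]
  exact ⟨fun ⟨y, e⟩ => ⟨y, y.2, e.symm⟩, fun ⟨y, hy, e⟩ => ⟨⟨y, hy⟩, e.symm⟩⟩

theorem R1_le (hg : g ∈ Ns Φ.Q) : Φ.R1 g ≤ Φ.R := fun w hw => by
  obtain ⟨y, hy, rfl⟩ := (h.mem_R1 hg).1 hw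
  exact ((h.mem_K hg).1 hy).2

theorem mem_bar_K (hg : g ∈ Ns Φ.Q) {φ : V → V} (hφ : ∀ u ∈ Φ.Q, φ (Φ.π u) = Φ.π (g * u * g⁻¹))
    {z : V} : z ∈ Φ.bar (Φ.K g) ↔ φ z = z := by
  obtain ⟨u, hu, rfl⟩ := h.π_surj z
  rw [h.π_mem_bar (h.R_le_K hg) hu, h.mem_K hg, and_iff_right hu, s_iff h hg hu, hφ u hu]

theorem mem_bar_W (hg : g ∈ Ns Φ.Q) {φ : V → V} (hφ : ∀ u ∈ Φ.Q, φ (Φ.π u) = Φ.π (g * u * g⁻¹))
    {z : V} : z ∈ Φ.bar (Φ.W g) ↔ ∃ z', z = φ z' - z' := by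
  obtain ⟨ψ, hψ⟩ := exists_φ h hg
  obtain rfl : φ = ψ := funext fun z => by
    obtain ⟨u, hu, rfl⟩ := h.π_surj z
    rw [hφ u hu, hψ u hu]
  rw [W_eq h hg hψ, bar_pre]
  exact exists_congr fun _ => eq_comm

theorem card_KW (hg : g ∈ Ns Φ.Q) :
    Nat.card (Φ.K g) * Nat.card (Φ.W g) = Nat.card F * Nat.card Φ.Q := by
  obtain ⟨φ, hφ⟩ := exists_φ h hg
  have h1 := h.card_bar' (h.R_le_K hg) (h.K_le g)
  have h2 := h.card_bar' (h.R_le_W g) (h.W_le hg)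
  rw [← h1, ← h2, K_eq h hg hφ, W_eq h hg hφ, bar_pre, bar_pre, h.card_Q, pow_succ, ← h.cV,
    AddSubgroup.card_eq_card_quotient_mul_card_addSubgroup (φ - AddMonoidHom.id V).ker,
    Nat.card_congr (QuotientAddGroup.quotientKerEquivRange (φ - AddMonoidHom.id V)).toEquiv]
  ring

theorem card_K (hg : g ∈ Ns Φ.Q) :
    Nat.card (Φ.K g) = Nat.card (Φ.R1 g) * Nat.card ↥(Φ.Q ⊓ C1 g) := by
  have : (B3.sg h hg).ker = (Φ.Q ⊓ C1 g).subgroupOf (Φ.K g) := by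
    ext y
    rw [MonoidHom.mem_ker, mem_subgroupOf, mem_inf, and_iff_right (h.K_le g y.2), mem_C1]
    show g * y * g⁻¹ * (y : G)⁻¹ = 1 ↔ _
    rw [mul_inv_eq_one, mul_inv_eq_iff_eq_mul, eq_comm]
  rw [card_eq_card_quotient_mul_card_subgroup (B3.sg h hg).ker, B3.R1_eq h hg,
    Nat.card_congr (QuotientGroup.quotientKerEquivRange (B3.sg h hg)).toEquiv, this,
    Nat.card_congr (subgroupOfEquivOfLe (h.C_le_K g)).toEquiv]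

theorem K_mul (hg : g ∈ Ns Φ.Q) (hv : v ∈ Φ.Q) : Φ.K (g * v) = Φ.K g := by
  ext u
  rw [h.mem_K hg, h.mem_K (mul_mem hg (le_normalizer hv))]
  refine and_congr_right fun hu => ?_
  rw [show g * v * u * (g * v)⁻¹ * u⁻¹ = g * (v * u * v⁻¹ * u⁻¹) * g⁻¹ * (g * u * g⁻¹ * u⁻¹) by group]
  exact mul_mem_cancel_left (cj_mem (h.Ns_le hg) (h.comm_mem hv hu))

theorem K_mul' (hg : g ∈ Ns Φ.Q) (hx : x ∈ Cs Φ.Q) : Φ.K (x * g) = Φ.K g := by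
  ext u
  rw [h.mem_K hg, h.mem_K (mul_mem (centralizer_le_normalizer _ hx) hg)]
  refine and_congr_right fun hu => ?_
  rw [show x * g * u * (x * g)⁻¹ = x * (g * u * g⁻¹) * x⁻¹ by group,
    ← mem_Cs.1 hx _ (cj_mem hg hu), mul_inv_cancel_right]

theorem Ns_W (hg : g ∈ Ns Φ.Q) (ha : a ∈ Ns Φ.Q) (hc : a ∈ C1 g) : a ∈ Ns (Φ.W g) := by
  refine mem_normalizer_of_cj_le (cj_le_iff.2 fun w hw => ?_)
  obtain ⟨y, hy, r, hr, rfl⟩ := (h.mem_W hg).1 hw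
  refine (h.mem_W hg).2 ⟨_, cj_mem ha hy, _, cj_mem (h.Ns_le ha) hr, ?_⟩
  have : g = a * g * a⁻¹ := by rw [mem_C1.1 hc, mul_inv_cancel_right]
  conv_rhs => rw [this]
  group

theorem pp_W (hg : g ∈ Ns Φ.Q) (hR : g ∈ Cs Φ.R) {lam : F →+ ZMod 2} (hl : lam ≠ 0) :
    Φ.bar (Φ.K g) = pp f lam (Φ.bar (Φ.W g)) := by
  obtain ⟨φ, h1, -, h2, -⟩ := h.lin hg hR
  ext z
  rw [h.mem_bar_K hg h1]
  exact (h.alt.pp_fix hl φ.toAddEquiv h2 (fun _ => h.mem_bar_W hg h1) z).symm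

theorem KW_comm (hg : g ∈ Ns Φ.Q) (hR : g ∈ Cs Φ.R) (hu : u ∈ Φ.K g) (hw : w ∈ Φ.W g) :
    Commute u w := by
  obtain ⟨φ, h1, -, h2, -⟩ := h.lin hg hR
  have k1 := (h.mem_bar_K hg h1).1 ((h.π_mem_bar (h.R_le_K hg) (h.K_le g hu)).2 hu)
  obtain ⟨z, k2⟩ := (h.mem_bar_W hg h1).1 ((h.π_mem_bar (h.R_le_W g) (h.W_le hg hw)).2 hw)
  rw [h.commute_iff (h.K_le g hu) (h.W_le hg hw), k2, map_sub, ← h2 _ z, k1, sub_self]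

theorem sub_K (hg : g ∈ Ns Φ.Q) (hR : g ∈ Cs Φ.R) :
    ∃ S : Submodule F V, S.toAddSubgroup = Φ.bar (Φ.K g) := by
  obtain ⟨φ, h1, -⟩ := h.lin hg hR
  refine ⟨LinearMap.ker (φ.toLinearMap - LinearMap.id), AddSubgroup.ext fun z => ?_⟩
  rw [h.mem_bar_K hg h1, Submodule.mem_toAddSubgroup, LinearMap.mem_ker, LinearMap.sub_apply,
    sub_eq_zero]
  rfl

theorem sub_W (hg : g ∈ Ns Φ.Q) (hR : g ∈ Cs Φ.R) :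
    ∃ S : Submodule F V, S.toAddSubgroup = Φ.bar (Φ.W g) := by
  obtain ⟨φ, h1, -⟩ := h.lin hg hR
  refine ⟨LinearMap.range (φ.toLinearMap - LinearMap.id), AddSubgroup.ext fun z => ?_⟩
  rw [h.mem_bar_W hg h1, Submodule.mem_toAddSubgroup, LinearMap.mem_range]
  exact exists_congr fun _ => eq_comm

end Sp

end Cfsg.Lib.FZ
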