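import Cfsg.Agent.FZ.B3

/-!
# Involutions acting on the special group
-/

set_option autoImplicit false
set_option linter.unusedSectionVars false

namespace Cfsg.Lib.FZ

open Subgroup Cfsg.Lib.Trans Cfsg.Lib.Gold
open scoped commutatorElement

variable {G F V : Type*} [Group G] [Field F] [AddCommGroup V] [Module F V] [Finite G] [Finite F]
  [Finite V] {f : V →ₗ[F] V →ₗ[F] F} {qq : V → F} {d : ℕ} {Φ Φ' : Fl G F V}

namespace B4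

theorem rel_mul (H K : Subgroup G) : H.relIndex K * Nat.card ↥(K ⊓ H) = Nat.card K := by
  rw [← (H.subgroupOf K).index_mul_card, relIndex, inf_comm, ← inf_subgroupOf_right,
    Nat.card_congr (subgroupOfEquivOfLe (inf_le_right : H ⊓ K ≤ K)).toEquiv]

theorem invol (h : Sp f qq d Φ) {g : G} (hg : g ∈ Ns Φ.Q) (g2 : g * g = 1) {φ : V → V}
    (hφ : ∀ u ∈ Φ.Q, φ (Φ.π u) = Φ.π (g * u * g⁻¹)) (z : V) : φ (φ z) = z := by
  obtain ⟨u, hu, rfl⟩ := h.π_surj z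
  rw [hφ u hu, hφ _ (mem_normalizer_conj hg hu)]
  congr 1
  calc g * (g * u * g⁻¹) * g⁻¹ = (g * g) * u * (g * g)⁻¹ := by group
    _ = u := by rw [g2]; group

theorem conj_s {g y : G} (g2 : g * g = 1) :
    g * (g * y * g⁻¹ * y⁻¹) * g⁻¹ = (g * y * g⁻¹ * y⁻¹)⁻¹ := by
  have e : g⁻¹ = g := inv_eq_of_sq g2
  calc g * (g * y * g⁻¹ * y⁻¹) * g⁻¹ = (g * g) * (y * g⁻¹ * y⁻¹ * g⁻¹) := by group
    _ = y * g * y⁻¹ * g⁻¹ := by rw [g2, one_mul]; nth_rw 1 [e]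
    _ = _ := by group

theorem R_comm (h : Sp f qq d Φ) {r u : G} (hr : r ∈ Φ.R) (hu : u ∈ Φ.Q) : u * r = r * u :=
  mem_Cs.1 (h.R_le_Cs hr) u hu

end B4

namespace Sp
variable (h : Sp f qq d Φ) {g u w r v a x y : G} {X P Y : Subgroup G}
include h

theorem W_le_K (hg : g ∈ Ns Φ.Q) (g2 : g * g = 1) : Φ.W g ≤ Φ.K g := by
  obtain ⟨φ, σ, l, -, hφ, -⟩ := h.act hg
  intro w hw
  have hQ := h.W_le hg hw
  obtain ⟨z, hz⟩ := (h.mem_bar_W hg hφ).1 ((h.π_mem_bar (h.R_le_W g) hQ).2 hw)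
  refine (h.π_mem_bar (h.R_le_K hg) hQ).1 ((h.mem_bar_K hg hφ).2 ?_)
  rw [hz, map_sub, B4.invol h hg g2 hφ, ← neg_sub, neg_eq_iff_add_eq_zero, h.alt.add_self]

theorem le_card_K (hg : g ∈ Ns Φ.Q) (g2 : g * g = 1) :
    Nat.card F ^ (d + 1) ≤ Nat.card (Φ.K g) := by
  have h1 := h.card_KW hg
  have h2 := Subgroup.card_le_of_le (h.W_le_K hg g2)
  rw [h.card_Q] at h1
  refine (Nat.pow_le_pow_iff_left two_ne_zero).1 ?_
  calc (Nat.card F ^ (d + 1)) ^ 2 = Nat.card F * Nat.card F ^ (2 * d + 1) := by ring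
    _ ≤ Nat.card (Φ.K g) ^ 2 := by rw [← h1, pow_two]; exact Nat.mul_le_mul_left _ h2

theorem le_card_C (hg : g ∈ Ns Φ.Q) (g2 : g * g = 1) :
    Nat.card F ^ d ≤ Nat.card ↥(Φ.Q ⊓ C1 g) := by
  have h1 := h.le_card_K hg g2
  have h2 := Subgroup.card_le_of_le (h.R1_le hg)
  rw [h.card_K hg, pow_succ'] at h1
  rw [h.card_R] at h2
  exact Nat.le_of_mul_le_mul_left (h1.trans (Nat.mul_le_mul_right _ h2)) Nat.card_pos

theorem W_conj (hg : g ∈ Ns Φ.Q) (hR : g ∈ Cs Φ.R) (g2 : g * g = 1) (hw : w ∈ Φ.W g) :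
    g * w * g⁻¹ * w⁻¹ = w * w := by
  obtain ⟨y, hy, r, hr, rfl⟩ := (h.mem_W hg).1 hw
  have hs : g * y * g⁻¹ * y⁻¹ ∈ Φ.Q := mul_mem (mem_normalizer_conj hg hy) (inv_mem hy)
  have h1 := B4.conj_s (y := y) g2
  generalize g * y * g⁻¹ * y⁻¹ = s at hs h1 ⊢
  have h2 : g * r * g⁻¹ = r := conj_eq_of_mem_centralizer hR hr
  have h3 := B4.R_comm h hr hs
  have h4 := h.pow4 hs
  calc g * (s * r) * g⁻¹ * (s * r)⁻¹ = (g * s * g⁻¹) * (g * r * g⁻¹) * r⁻¹ * s⁻¹ := by group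
    _ = s⁻¹ * s⁻¹ * s ^ 4 := by rw [h1, h2, h4]; group
    _ = s ^ 2 := by group
    _ = s * s * (r * r) := by rw [h.R_sq hr, mul_one, pow_two]
    _ = s * (s * r) * r := by simp only [mul_assoc]
    _ = s * (r * s) * r := by rw [h3]
    _ = _ := by simp only [mul_assoc]

theorem card_W0 (hg : g ∈ Ns Φ.Q) (g2 : g * g = 1) :
    Nat.card (Φ.W g) ≤ Nat.card (Φ.R1 g) * Nat.card ↥(Φ.W g ⊓ C1 g) := by
  have h1 : (C1 g).relIndex (Φ.K g) = Nat.card (Φ.R1 g) := by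
    have e : Φ.K g ⊓ C1 g = Φ.Q ⊓ C1 g :=
      le_antisymm (inf_le_inf_right _ (h.K_le g)) (le_inf (h.C_le_K g) inf_le_right)
    have := B4.rel_mul (C1 g) (Φ.K g)
    rw [e, h.card_K hg] at this
    exact Nat.eq_of_mul_eq_mul_right Nat.card_pos this
  rw [← B4.rel_mul (C1 g) (Φ.W g), ← h1]
  exact Nat.mul_le_mul_right _ (relIndex_le_of_le_right (h.W_le_K hg g2)
    (by rw [h1]; exact Nat.card_pos.ne'))

theorem sl_R (hg : g ∈ Ns Φ.Q) (g2 : g * g = 1) (hR : g ∉ Cs Φ.R) (hx : x ∈ Φ.R)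
    (hc : Commute g x) : ∃ r ∈ Φ.R, x = g * r * g⁻¹ * r⁻¹ := by
  obtain ⟨φ, σ, l, c, hc', -, hι, -⟩ := h.semi hg hR ⟨1, by rw [pow_one, pow_two, g2]⟩
  obtain ⟨a, rfl⟩ := h.mem_R.1 hx
  let ψ : F →+ F := AddMonoidHom.mk' (fun a => l * σ a) fun a b => by rw [map_add, mul_add]
  have hψ : ∀ a, ψ a = l * σ a := fun _ => rfl
  obtain ⟨w, hw⟩ := semi_range (V := F) h.two ψ σ
    (fun c v => by rw [hψ, hψ, smul_eq_mul, smul_eq_mul, map_mul]; ring) hc'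
    (fun v => h.ι_injective (by
      rw [hψ, ← hι, hψ, ← hι]
      calc g * (g * Φ.ι v * g⁻¹) * g⁻¹ = (g * g) * Φ.ι v * (g * g)⁻¹ := by group
        _ = _ := by rw [g2]; group))
    (v := a) (h.ι_injective (by rw [hψ, ← hι, hc.eq, mul_inv_cancel_right]))
  refine ⟨Φ.ι w, Φ.ι_mem w, ?_⟩
  rw [hι, eq_mul_inv_iff_mul_eq, ← h.ι_add, hw, hψ, sub_add_cancel]

theorem sl_card (hg : g ∈ Ns Φ.Q) (g2 : g * g = 1) (hR : g ∉ Cs Φ.R) :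
    Nat.card (Φ.K g) = Nat.card F ^ (d + 1) := by
  obtain ⟨φ, σ, l, c, hc', hφ, -, hs⟩ := h.semi hg hR ⟨1, by rw [pow_one, pow_two, g2]⟩
  have e : Φ.W g = Φ.K g := le_antisymm (h.W_le_K hg g2) fun u hu => by
    have hQ := h.K_le g hu
    refine (h.π_mem_bar (h.R_le_W g) hQ).1 ((h.mem_bar_W hg hφ).2 ?_)
    exact semi_range h.two φ.toAddMonoidHom σ hs hc' (B4.invol h hg g2 hφ)
      ((h.mem_bar_K hg hφ).1 ((h.π_mem_bar (h.R_le_K hg) hQ).2 hu))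
  have h1 := h.card_KW hg
  rw [e, h.card_Q] at h1
  refine Nat.pow_left_injective two_ne_zero ?_
  show Nat.card (Φ.K g) ^ 2 = (Nat.card F ^ (d + 1)) ^ 2
  rw [pow_two, h1]; ring

theorem sl_span (hg : g ∈ Ns Φ.Q) (g2 : g * g = 1) (hR : g ∉ Cs Φ.R) (z : V) :
    ∃ y ∈ Φ.Q ⊓ C1 g, ∃ y' ∈ Φ.Q ⊓ C1 g, ∃ a b : F, z = a • Φ.π y + b • Φ.π y' := by
  obtain ⟨φ, σ, l, c, hc', hφ, -, hs⟩ := h.semi hg hR ⟨1, by rw [pow_one, pow_two, g2]⟩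
  have key : ∀ z, φ z = z → ∃ y ∈ Φ.Q ⊓ C1 g, Φ.π y = z := fun z hz => by
    obtain ⟨y, hy, hyQ, rfl⟩ := h.mem_bar.1 ((h.mem_bar_K hg hφ).2 hz)
    have hx := ((h.mem_K hg).1 hy).2
    have h1 := B4.conj_s (y := y) g2
    rw [inv_eq_of_sq (h.R_sq hx), mul_inv_eq_iff_eq_mul] at h1
    obtain ⟨r, hr, e⟩ := h.sl_R hg g2 hR hx h1
    have hrQ := h.R_le_Q hr
    refine ⟨y * r⁻¹, mem_inf.2 ⟨mul_mem hyQ (inv_mem hrQ), mem_C1.2 ?_⟩, ?_⟩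
    · have h2 := B4.R_comm h hx (mul_mem hyQ (inv_mem hrQ))
      have h3 : g * (y * r⁻¹) * g⁻¹ = (g * y * g⁻¹ * y⁻¹) * (y * r⁻¹) * (g * r * g⁻¹ * r⁻¹)⁻¹ := by
        group
      rw [← e, ← h2, mul_inv_cancel_right, mul_inv_eq_iff_eq_mul] at h3
      exact h3.symm
    · rw [h.π_mul _ hyQ _ (inv_mem hrQ), (h.π_eq_zero (inv_mem hrQ)).2 (inv_mem hr), add_zero]
  obtain ⟨x, y, a, b, hx, hy, e⟩ :=
    semi_span h.two φ.toAddMonoidHom σ hs hc' (B4.invol h hg g2 hφ) z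
  obtain ⟨u, hu, rfl⟩ := key x hx
  obtain ⟨u', hu', rfl⟩ := key y hy
  exact ⟨u, hu, u', hu', a, b, e⟩

theorem sl_perp (hg : g ∈ Ns Φ.Q) (g2 : g * g = 1) (hR : g ∉ Cs Φ.R) (hx : x ∈ Φ.Q)
    (hc : ∀ y ∈ Φ.Q ⊓ C1 g, Commute x y) : x ∈ Φ.R := by
  refine (h.π_eq_zero hx).1 (h.nd _ fun z => ?_)
  obtain ⟨y, hy, y', hy', a, b, rfl⟩ := h.sl_span hg g2 hR z
  rw [map_add, map_smul, map_smul, (h.commute_iff hx hy.1).1 (hc y hy),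
    (h.commute_iff hx hy'.1).1 (hc y' hy'), smul_zero, smul_zero, add_zero]

theorem sl_lin (hg : g ∈ Ns Φ.Q) (g2 : g * g = 1) (hR : g ∉ Cs Φ.R) (ha : a ∈ Ns Φ.Q)
    (haR : a ∈ Cs Φ.R) (hc : ∀ y ∈ Φ.Q ⊓ C1 g, Commute a y) : Φ.K a = Φ.Q := by
  obtain ⟨ψ, hψ, -⟩ := h.lin ha haR
  refine le_antisymm (h.K_le a) fun u hu => ?_
  refine (h.π_mem_bar (h.R_le_K ha) hu).1 ((h.mem_bar_K ha hψ).2 ?_)
  obtain ⟨y, hy, y', hy', b, c, e⟩ := h.sl_span hg g2 hR (Φ.π u)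
  rw [e, map_add, map_smul, map_smul, hψ y hy.1, hψ y' hy'.1, (hc y hy).eq, (hc y' hy').eq,
    mul_inv_cancel_right, mul_inv_cancel_right]

end Sp

end Cfsg.Lib.FZ
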