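import Cfsg.Agent.Gold.Cm

/-!
# The fusion `t ∼ t z` in standard form problems for groups of Lie type in characteristic two

Abstract setting: an involution `t`, a special subgroup `Q = q^{1+2d}` of `C(t)` with centre the
root group `R`, coordinates `ι : F → R` and `π : Q → V = Q / R`.
-/

set_option autoImplicit false
set_option linter.unusedSectionVars false

namespace Cfsg.Lib.FZ

open Subgroup Cfsg.Lib.Trans Cfsg.Lib.Gold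
open scoped commutatorElement

/-- An involution with a root group, its special group, `Z₂(U)`, a Sylow subgroup of `C(t)`. -/
structure Fl (G F V : Type*) [Group G] where
  t : G
  Q : Subgroup G
  E : Subgroup G
  T : Subgroup G
  ι : F → G
  π : G → V

section Lin

variable {F V : Type*} [Field F] [AddCommGroup V] [Module F V]

/-- The orthogonal complement with respect to the `𝔽₂`-form `lam ∘ f`. -/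
def pp (f : V →ₗ[F] V →ₗ[F] F) (lam : F →+ ZMod 2) (X : AddSubgroup V) : AddSubgroup V where
  carrier := {v | ∀ x ∈ X, lam (f v x) = 0}
  zero_mem' x _ := by simp
  add_mem' {a b} ha hb x hx := by
    rw [map_add, LinearMap.add_apply, map_add, ha x hx, hb x hx, add_zero]
  neg_mem' {a} ha x hx := by rw [map_neg, LinearMap.neg_apply, map_neg, ha x hx, neg_zero]

theorem pp_eq_1' : type_of% @pp.eq_1 := @pp.eq_1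

theorem mem_pp {f : V →ₗ[F] V →ₗ[F] F} {lam : F →+ ZMod 2} {X : AddSubgroup V} {v : V} :
    v ∈ pp f lam X ↔ ∀ x ∈ X, lam (f v x) = 0 := Iff.rfl

/-- A nondegenerate alternating form over a field of characteristic two. -/
structure Alt (f : V →ₗ[F] V →ₗ[F] F) : Prop where
  two : (2 : F) = 0
  alt : ∀ v, f v v = 0
  nd : ∀ v, (∀ w, f v w = 0) → v = 0

/-- An isometry with small commutators (the hypothesis of the rank lemma). -/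
structure Gd (f : V →ₗ[F] V →ₗ[F] F) (W0 N B D : AddSubgroup V) (a : V → V) : Prop where
  iso : ∀ v w, f (a v) (a w) = f v w
  wn : ∀ w ∈ W0, a w - w ∈ N
  bd : ∀ b ∈ B, a b - b ∈ D
  dd : ∀ x ∈ D, a x = x

end Lin

variable {G F V : Type*} [Group G]

namespace Fl

variable (Φ : Fl G F V)

/-- The root group. -/
def R : Subgroup G := closure (Set.range Φ.ι)

/-- The conjugate flag. -/
def cn (g : G) : Fl G F V where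
  t := g * Φ.t * g⁻¹
  Q := cj g Φ.Q
  E := cj g Φ.E
  T := cj g Φ.T
  ι a := g * Φ.ι a * g⁻¹
  π u := Φ.π (g⁻¹ * u * g)

/-- The preimage of `C_V(g)` in `Q`. -/
def K (g : G) : Subgroup G := closure {u | u ∈ Φ.Q ∧ g * u * g⁻¹ * u⁻¹ ∈ Φ.R}

/-- The preimage of `[V, g]` in `Q`. -/
def W (g : G) : Subgroup G := closure {w | ∃ y ∈ Φ.Q, w = g * y * g⁻¹ * y⁻¹} ⊔ Φ.R

/-- `[K(g), g]`. -/
def R1 (g : G) : Subgroup G := closure {w | ∃ y ∈ Φ.K g, w = g * y * g⁻¹ * y⁻¹}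

/-- `g ∈ Q ⟨t⟩`. -/
def Qt (g : G) : Prop := g ∈ Φ.Q ∨ Φ.t * g ∈ Φ.Q

/-- The image of `X ∩ Q` in `V`. -/
def bar [AddCommGroup V] (X : Subgroup G) : AddSubgroup V :=
  AddSubgroup.closure {v | ∃ u ∈ X, u ∈ Φ.Q ∧ Φ.π u = v}

theorem R_eq_1' : type_of% @R.eq_1 := @R.eq_1
theorem cn_eq_1' : type_of% @cn.eq_1 := @cn.eq_1
theorem K_eq_1' : type_of% @K.eq_1 := @K.eq_1
theorem W_eq_1' : type_of% @W.eq_1 := @W.eq_1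
theorem R1_eq_1' : type_of% @R1.eq_1 := @R1.eq_1
theorem Qt_eq_1' : type_of% @Qt.eq_1 := @Qt.eq_1
theorem bar_eq_1' : type_of% @bar.eq_1 := @bar.eq_1

theorem cn_t (g : G) : (Φ.cn g).t = g * Φ.t * g⁻¹ := rfl
theorem cn_Q (g : G) : (Φ.cn g).Q = cj g Φ.Q := rfl
theorem cn_E (g : G) : (Φ.cn g).E = cj g Φ.E := rfl
theorem cn_T (g : G) : (Φ.cn g).T = cj g Φ.T := rfl
theorem cn_ι (g : G) (a : F) : (Φ.cn g).ι a = g * Φ.ι a * g⁻¹ := rfl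
theorem cn_π (g u : G) : (Φ.cn g).π u = Φ.π (g⁻¹ * u * g) := rfl

theorem ι_mem (a : F) : Φ.ι a ∈ Φ.R := subset_closure ⟨a, rfl⟩

theorem cn_R (g : G) : (Φ.cn g).R = cj g Φ.R := by
  rw [R, R, cj_closure]
  congr 1
  ext x
  constructor
  · rintro ⟨a, rfl⟩
    exact ⟨_, ⟨a, rfl⟩, rfl⟩
  · rintro ⟨_, ⟨a, rfl⟩, rfl⟩
    exact ⟨a, rfl⟩

theorem cn_cn (g k : G) : (Φ.cn g).cn k = Φ.cn (k * g) := by
  simp only [cn, cj_cj, mul_inv_rev, mul_assoc]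

theorem cn_one : Φ.cn 1 = Φ := by
  simp only [cn, cj_one, inv_one, mul_one, one_mul]

end Fl

/-- Conjugate flags. -/
def Cj (Φ Φ' : Fl G F V) : Prop := ∃ g, Φ' = Φ.cn g

theorem Cj_eq_1' : type_of% @Cj.eq_1 := @Cj.eq_1

theorem Cj.refl (Φ : Fl G F V) : Cj Φ Φ := ⟨1, Φ.cn_one.symm⟩

theorem Cj.cn (Φ : Fl G F V) (g : G) : Cj Φ (Φ.cn g) := ⟨g, rfl⟩

theorem Cj.symm {Φ Φ' : Fl G F V} (c : Cj Φ Φ') : Cj Φ' Φ := by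
  obtain ⟨g, rfl⟩ := c
  exact ⟨g⁻¹, by rw [Fl.cn_cn, inv_mul_cancel, Fl.cn_one]⟩

theorem Cj.trans {Φ Φ' Φ'' : Fl G F V} (c : Cj Φ Φ') (c' : Cj Φ' Φ'') : Cj Φ Φ'' := by
  obtain ⟨g, rfl⟩ := c
  obtain ⟨k, rfl⟩ := c'
  exact ⟨_, Φ.cn_cn g k⟩

theorem Cj.isConj {Φ Φ' : Fl G F V} (c : Cj Φ Φ') : IsConj Φ.t Φ'.t := by
  obtain ⟨g, rfl⟩ := c
  exact isConj_iff.2 ⟨g, rfl⟩

variable [Field F] [AddCommGroup V] [Module F V] (f : V →ₗ[F] V →ₗ[F] F) (qq : V → F) (d : ℕ)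

/-- `Q` is a special group of shape `q^{1+2d}` with an `F`-structure. -/
structure Sp (Φ : Fl G F V) : Prop where
  d10 : 10 ≤ d
  two : (2 : F) = 0
  nd : ∀ v, (∀ w, f v w = 0) → v = 0
  qq_smul : ∀ (c : F) v, qq (c • v) = c ^ 2 * qq v
  cV : Nat.card V = Nat.card F ^ (2 * d)
  ι_add : ∀ a b, Φ.ι (a + b) = Φ.ι a * Φ.ι b
  ι_inj : ∀ a, Φ.ι a = 1 → a = 0
  ι_Q : ∀ a, Φ.ι a ∈ Φ.Q
  π_mul : ∀ u ∈ Φ.Q, ∀ w ∈ Φ.Q, Φ.π (u * w) = Φ.π u + Φ.π w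
  π_surj : ∀ v, ∃ u ∈ Φ.Q, Φ.π u = v
  π_ker : ∀ u ∈ Φ.Q, (Φ.π u = 0 ↔ ∃ a, u = Φ.ι a)
  comm : ∀ u ∈ Φ.Q, ∀ w ∈ Φ.Q, u * w * u⁻¹ * w⁻¹ = Φ.ι (f (Φ.π u) (Φ.π w))
  sq : ∀ u ∈ Φ.Q, u * u = Φ.ι (qq (Φ.π u))

/-- The facts about the component `L` of `C(t)` which are used. -/
structure Hy0 (Φ : Fl G F V) : Prop extends Sp f qq d Φ where
  t2 : Φ.t * Φ.t = 1
  n1 : ∀ a, a ≠ 0 → C1 Φ.t ⊓ C1 (Φ.ι a) ≤ Ns Φ.Q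
  QT : Φ.Q ≤ Φ.T
  TC : Φ.T ≤ C1 Φ.t
  T2 : IsPGroup 2 Φ.T
  TN : Φ.T ≤ Ns Φ.Q
  syl : ∀ P : Subgroup G, IsPGroup 2 P → P ≤ C1 Φ.t → ∃ c ∈ C1 Φ.t, cj c P ≤ Φ.T
  RE : Φ.R ≤ Φ.E
  EQ : Φ.E ≤ Φ.Q
  cE : Nat.card Φ.E = Nat.card F ^ 2
  rE : ∀ e ∈ Φ.E, ∃ c ∈ C1 Φ.t, c * e * c⁻¹ ∈ Φ.R
  eT : ∀ g ∈ Φ.T, g ∈ Cs Φ.R → ∀ e ∈ Φ.E, g * e * g⁻¹ * e⁻¹ ∈ Φ.R
  nc : ∀ u ∈ Φ.Q, ¬ IsConj Φ.t u
  mr : ∀ g, g * g = 1 → g ∈ C1 Φ.t → g ∈ Cs Φ.R → ¬ Φ.Qt g → ∃ u : Fin 6 → G, (∀ i, u i ∈ Φ.Q) ∧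
    LinearIndependent F fun i => Φ.π (g * u i * g⁻¹ * (u i)⁻¹)
  lb : ∀ g, IsConj Φ.t g → g ≠ Φ.t → g ∈ Φ.T → g ∈ Cs Φ.R →
    (∀ P : Subgroup G, IsPGroup 2 P → P ≤ C1 Φ.t ⊓ C1 g → Nat.card P ≤ Nat.card ↥(Φ.T ⊓ C1 g)) →
    2 * Nat.card F ^ (d + 1) < Nat.card ↥(Φ.Q ⊓ C1 g)

/-- The counterexample: `t` is not conjugate to `t z`. -/
structure Hy (Φ : Fl G F V) : Prop extends Hy0 f qq d Φ where
  ntr : ∀ r ∈ Φ.R, IsConj Φ.t (Φ.t * r) → r = 1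

/-- A pair of commuting conjugates with mutually normalising flags. -/
structure Pr (Φ Φ' : Fl G F V) : Prop where
  h : Hy f qq d Φ
  c : Cj Φ Φ'
  ne : Φ'.t ≠ Φ.t
  cm : Commute Φ'.t Φ.t
  nA : Φ.Q ⊓ C1 Φ'.t ≤ Ns Φ'.Q
  nB : Φ'.Q ⊓ C1 Φ.t ≤ Ns Φ.Q
  n1 : Φ.t ∈ Ns Φ'.Q
  n2 : Φ'.t ∈ Ns Φ.Q

/-- A pair with equal root groups. -/
structure Eq1 (Φ Φ' : Fl G F V) : Prop where
  h : Hy f qq d Φ
  c : Cj Φ Φ'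
  ne : Φ'.t ≠ Φ.t
  cm : Commute Φ'.t Φ.t
  eq : Φ'.R = Φ.R

/-- A pair with a maximal nontrivial intersection of the root groups. -/
structure Mx (Φ Φ' : Fl G F V) : Prop where
  h : Hy f qq d Φ
  c : Cj Φ Φ'
  ne : Φ'.t ≠ Φ.t
  cm : Commute Φ'.t Φ.t
  nb : Φ.R ⊓ Φ'.R ≠ ⊥
  mx : ∀ Φ₁ Φ₂ : Fl G F V, Cj Φ Φ₁ → Cj Φ Φ₂ → Φ₂.t ≠ Φ₁.t → Commute Φ₂.t Φ₁.t →
    Nat.card ↥(Φ₁.R ⊓ Φ₂.R) ≤ Nat.card ↥(Φ.R ⊓ Φ'.R)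

/-- A pair in the final configuration. -/
structure Mn (Φ Φ' : Fl G F V) : Prop extends Pr f qq d Φ Φ' where
  r1 : ∀ r ∈ Φ.R, Φ'.Qt r → r = 1
  r2 : ∀ r ∈ Φ'.R, Φ.Qt r → r = 1

end Cfsg.Lib.FZ
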