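import Cfsg.Agent.FZ.H0

/-!
# The fusion `t ∼ t z`: commuting conjugates with equal root groups, first part
-/

set_option autoImplicit false
set_option linter.unusedSectionVars false

namespace Cfsg.Lib.FZ

open Subgroup Cfsg.Lib.Trans Cfsg.Lib.Gold
open scoped commutatorElement

variable {G F V : Type*} [Group G] [Field F] [AddCommGroup V] [Module F V] [Finite G] [Finite F]
  [Finite V] {f : V →ₗ[F] V →ₗ[F] F} {qq : V → F} {d : ℕ} {Φ Φ' : Fl G F V}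

namespace Eq1
variable (p : Eq1 f qq d Φ Φ')
include p

theorem symm : Eq1 f qq d Φ' Φ := ⟨p.h.of_cj p.c, p.c.symm, p.ne.symm, p.cm.symm, p.eq.symm⟩

theorem tR : Φ'.t ∈ Cs Φ.R := Cs_anti (p.eq ▸ p.symm.h.toSp.R_le_Q) p.symm.h.toHy0.t_Cs

theorem tN : Φ'.t ∈ Ns Φ.Q := p.h.toHy0.Cs_Ns (mem_C1.2 p.cm.eq) p.tR

theorem K_ne : Φ.K Φ'.t ≠ Φ.Q := fun e => by
  have s := p.h.toSp
  have h' := p.symm.h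
  rcases p.h.toHy0.mr' h'.t2 (mem_C1.2 p.cm.eq) p.tN (by
    rw [e]
    exact lt_mul_of_one_lt_left Nat.card_pos (one_lt_pow₀ s.two_le (by norm_num))) with hq | hq
  · exact p.h.nc _ hq p.c.isConj
  have e1 : Φ.t * (Φ.t * Φ'.t) = Φ'.t := by rw [← mul_assoc, p.h.t2, one_mul]
  by_cases hR : Φ.t * Φ'.t ∈ Φ.R
  · have := p.h.ntr _ hR (e1.symm ▸ p.c.isConj)
    rw [this, mul_one] at e1
    exact p.ne e1.symm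
  obtain ⟨u, hu, e2⟩ := s.onto hq hR (Φ.ι_mem 1)
  refine one_ne_zero (s.ι_inj 1 (h'.ntr _ (p.eq ▸ Φ.ι_mem 1) (isConj_iff.2 ⟨u, ?_⟩)))
  have e3 := mem_C1.1 (p.h.toHy0.QC hu)
  have e4 := mem_Cs.1 p.tR _ (Φ.ι_mem 1)
  calc u * Φ'.t * u⁻¹ = u * Φ.t * (Φ.t * Φ'.t) * u⁻¹ := by rw [mul_assoc u Φ.t, e1]
    _ = Φ.t * (u * (Φ.t * Φ'.t) * u⁻¹ * (Φ.t * Φ'.t)⁻¹) * (Φ.t * Φ'.t) := by rw [e3]; group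
    _ = Φ.t * (Φ.ι 1 * (Φ.t * Φ'.t)) := by rw [e2, mul_assoc]
    _ = _ := by rw [← mem_Cs.1 (s.R_le_Cs (Φ.ι_mem 1)) _ hq, ← mul_assoc, e1]

theorem K_eq : Φ.K Φ'.t = Φ.Q ⊓ C1 Φ'.t := by
  refine le_antisymm (fun u hu => ?_) (p.h.toSp.C_le_K _)
  obtain ⟨hu, hr⟩ := (p.h.toSp.mem_K p.tN).1 hu
  have h' := p.symm.h
  have e := h'.ntr _ (p.eq ▸ hr) (isConj_iff.2 ⟨u, by
    rw [inv_eq_of_sq h'.t2, ← mul_assoc, ← mul_assoc, ← mul_assoc, h'.t2, one_mul]⟩)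
  exact ⟨hu, mem_C1.2 (by rw [mul_inv_eq_one, mul_inv_eq_iff_eq_mul] at e; exact e.symm)⟩

theorem W_le_C : Φ.W Φ'.t ≤ Φ.Q ⊓ C1 Φ'.t := p.K_eq ▸ p.h.toSp.W_le_K p.tN p.symm.h.t2

theorem W_sq {w : G} (hw : w ∈ Φ.W Φ'.t) : w * w = 1 := by
  rw [← p.h.toSp.W_conj p.tN p.tR p.symm.h.t2 hw, ← mem_C1.1 (p.W_le_C hw).2]
  group

theorem W_Ns : Φ'.W Φ.t ≤ Ns Φ.Q ⊓ Cs Φ.R := fun w hw => by
  have h1 := p.symm.W_le_C hw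
  have h2 : w ∈ Cs Φ.R := p.eq ▸ p.symm.h.toSp.Q_le_Cs h1.1
  exact ⟨p.h.toHy0.Cs_Ns h1.2 h2, h2⟩

theorem step {y : G} (hy : y ∈ Φ'.Q) (hb : Φ.t * y * Φ.t⁻¹ * y⁻¹ ≠ 1) :
    Eq1 f qq d Φ (Φ.cn y) ∧ Φ.K (Φ.cn y).t = Φ.K (Φ.t * y * Φ.t⁻¹ * y⁻¹) := by
  have hW : Φ.t * y * Φ.t⁻¹ * y⁻¹ ∈ Φ'.W Φ.t :=
    (p.symm.h.toSp.mem_W p.symm.tN).2 ⟨y, hy, 1, one_mem _, (mul_one _).symm⟩
  have e : (Φ.cn y).t = Φ.t * (Φ.t * y * Φ.t⁻¹ * y⁻¹) := by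
    rw [Fl.cn_t, inv_eq_of_sq p.h.t2, ← mul_assoc, ← mul_assoc, ← mul_assoc, p.h.t2, one_mul]
  refine ⟨⟨p.h, Cj.cn Φ y, fun e1 => hb (by rwa [e, mul_eq_left] at e1), ?_, ?_⟩, ?_⟩
  · rw [e]
    exact (Commute.refl _).mul_left (mem_C1.1 (p.symm.W_le_C hW).2)
  · rw [Fl.cn_R, mem_Ns_iff.1 (Cs_le_Ns (p.eq ▸ p.symm.h.toSp.Q_le_Cs hy))]
  · rw [e, p.h.toSp.K_mul' (p.W_Ns hW).1 p.h.toHy0.t_Cs]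

theorem W_inf : Φ'.W Φ.t ⊓ Φ.Q ≤ Φ.R := by
  rintro w ⟨hw, hQ⟩
  have s := p.h.toSp
  obtain ⟨y, hy, r, hr, rfl⟩ := (p.symm.h.toSp.mem_W p.symm.tN).1 hw
  rw [p.eq] at hr
  by_cases hb : Φ.t * y * Φ.t⁻¹ * y⁻¹ = 1
  · rwa [hb, one_mul]
  have hb' : Φ.t * y * Φ.t⁻¹ * y⁻¹ ∈ Φ.Q := (mul_mem_cancel_right (s.R_le_Q hr)).1 hQ
  obtain ⟨p1, e⟩ := p.step hy hb
  exact absurd (e.trans (le_antisymm (s.K_le _) fun u hu =>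
    (s.mem_K (le_normalizer hb')).2 ⟨hu, s.comm_mem hb' hu⟩)) p1.K_ne

theorem A_le {w : G} (hw : w ∈ Φ'.W Φ.t) : Φ.Q ⊓ C1 Φ'.t ≤ Φ.K w := by
  rintro a ⟨ha, hc⟩
  have s := p.h.toSp
  have h' := p.symm.h
  have hN := (p.W_Ns hw).1
  have h1 := h'.toSp.Ns_W p.symm.tN (h'.toHy0.Cs_Ns hc (p.eq ▸ s.Q_le_Cs ha)) (p.h.toHy0.QC ha)
  refine (s.mem_K hN).2 ⟨ha, p.W_inf ⟨?_, Φ.Q.mul_mem ((mem_normalizer_iff.1 hN a).1 ha) (Φ.Q.inv_mem ha)⟩⟩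
  rw [mul_assoc, mul_assoc, ← mul_assoc a]
  exact mul_mem hw ((mem_normalizer_iff.1 h1 _).1 (inv_mem hw))

end Eq1

end Cfsg.Lib.FZ
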