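import Cfsg.Agent.FZ.F1a
import Cfsg.Agent.FZ.CW

/-!
# The fusion `t ∼ t z`: commuting conjugates with equal root groups, second part
-/

set_option autoImplicit false
set_option linter.unusedSectionVars false

namespace Cfsg.Lib.FZ

open Subgroup Cfsg.Lib.Trans Cfsg.Lib.Gold
open scoped commutatorElement

variable {G F V : Type*} [Group G] [Field F] [AddCommGroup V] [Module F V] [Finite G] [Finite F]
  [Finite V] {f : V →ₗ[F] V →ₗ[F] F} {qq : V → F} {d : ℕ} {Φ Φ' : Fl G F V}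

namespace F1b

theorem card_le_fib {H R : Subgroup G} {β : Type*} [Finite β] (ψ : H → β)
    (hf : ∀ a b, ψ a = ψ b → (a : G)⁻¹ * b ∈ R) : Nat.card H ≤ Nat.card R * Nat.card β := by
  rw [← Nat.card_prod]
  refine Nat.card_le_card_of_injective (fun a => (⟨((Function.invFun ψ (ψ a) : H) : G)⁻¹ * a,
    hf _ _ (Function.invFun_eq ⟨a, rfl⟩)⟩, ψ a)) fun a b e => ?_
  have e1 : ψ a = ψ b := congrArg Prod.snd e
  have e2 : ((Function.invFun ψ (ψ a) : H) : G)⁻¹ * a = ((Function.invFun ψ (ψ b) : H) : G)⁻¹ * b :=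
    congrArg (fun p => (p.1 : G)) e
  rw [e1] at e2
  exact Subtype.ext (mul_left_cancel e2)

theorem aux (p : Eq1 f qq d Φ Φ') (mx : ∀ Φ₁ Φ₂ : Fl G F V, Eq1 f qq d Φ₁ Φ₂ →
    Nat.card ↥(Φ₁.Q ⊓ C1 Φ₂.t) ≤ Nat.card ↥(Φ.Q ⊓ C1 Φ'.t)) : False := by
  have s := p.h.toSp
  have s' := p.symm.h.toSp
  have k1 : ∀ w ∈ Φ'.W Φ.t, w ∉ Φ.R → Φ.K w = Φ.Q ⊓ C1 Φ'.t := fun w hw hR => by
    refine (eq_of_le_of_card_ge (p.A_le hw) ?_).symm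
    obtain ⟨y, hy, r, hr, rfl⟩ := (s'.mem_W p.symm.tN).1 hw
    rw [p.eq] at hr
    obtain ⟨p1, e⟩ := p.step hy fun e => hR (by rwa [e, one_mul])
    rw [s.K_mul (p.W_Ns ((s'.mem_W p.symm.tN).2 ⟨y, hy, 1, one_mem _, (mul_one _).symm⟩)).1 (s.R_le_Q hr), ← e,
      p1.K_eq]
    exact mx _ _ p1
  have k2 : Nat.card (Φ.W Φ'.t) ≤ Nat.card (Φ'.W Φ.t) := by
    have e1 := s.card_KW p.tN
    have e2 := s'.card_KW p.symm.tN
    rw [p.K_eq, s.card_Q] at e1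
    rw [p.symm.K_eq, s'.card_Q, ← e1] at e2
    exact Nat.le_of_mul_le_mul_left (e2.ge.trans (Nat.mul_le_mul_right _ (mx _ _ p.symm))) Nat.card_pos
  obtain ⟨u, hu, hA⟩ := SetLike.exists_of_lt (lt_of_le_of_ne (s.K_le _) p.K_ne)
  obtain ⟨lam, hl, -⟩ := exists_lam s.two (S := ⊥) bot_ne_top
  let Z : AddSubgroup V := Φ.bar (Φ.W Φ'.t) ⊓ (f (Φ.π u)).toAddMonoidHom.ker
  have k3 : ∀ w ∈ Φ'.W Φ.t, Φ.π (w * u * w⁻¹) - Φ.π u ∈ Z := fun w hw => by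
    obtain ⟨φ, h1, h2, h3, h4⟩ := s.lin (p.W_Ns hw).1 (p.W_Ns hw).2
    have h5 : φ (Φ.π u) - Φ.π u ∈ Φ.bar (Φ.W Φ'.t) := by
      rw [← s.alt.pp_pp hl (Φ.bar (Φ.W Φ'.t)), ← s.pp_W p.tN p.tR hl, p.K_eq]
      refine s.alt.dual (Y := ⊥) φ.toAddEquiv h3 (fun x hx => ?_) (mem_pp.2 fun x hx => by
        rw [AddSubgroup.mem_bot.1 hx, map_zero, map_zero])
      obtain ⟨a, ha, hQ, rfl⟩ := s.mem_bar.1 hx
      have hN := (p.W_Ns (inv_mem hw)).1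
      have h6 := ((s.mem_K hN).1 (p.A_le (inv_mem hw) ha)).2
      have h7 := (mem_normalizer_iff.1 hN a).1 hQ
      rw [inv_inv] at h6 h7
      exact AddSubgroup.mem_bot.2 (sub_eq_zero.2 ((h2 a hQ).trans ((s.π_eq_iff h7 hQ).2 h6)))
    rw [← h1 u hu]
    refine ⟨h5, ?_⟩
    obtain ⟨w0, hw0, hQ, e⟩ := s.mem_bar.1 h5
    have h6 := s.pol (Φ.π u) (φ (Φ.π u) - Φ.π u)
    rw [add_sub_cancel, h4, ← e, (s.sq_iff hQ).1 (p.W_sq hw0), add_zero, left_eq_add, e] at h6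
    exact h6
  have k4 := card_le_fib (R := Φ.R) (fun w : Φ'.W Φ.t => (⟨_, k3 w w.2⟩ : Z)) fun a b e => by
    have ha := p.W_Ns a.2
    have hb := p.W_Ns b.2
    have hab := mul_mem (inv_mem a.2) b.2
    have e1 := (s.π_eq_iff ((mem_normalizer_iff.1 hb.1 u).1 hu) ((mem_normalizer_iff.1 ha.1 u).1 hu)).1
      (sub_left_injective (congrArg Subtype.val e)).symm
    by_contra hR
    refine hA (p.K_eq ▸ k1 _ hab hR ▸ (s.mem_K (p.W_Ns hab).1).2 ⟨hu, ?_⟩)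
    have e2 := (mem_normalizer_iff.1 (inv_mem (Cs_le_Ns ha.2)) _).1 e1
    convert e2 using 1
    group
  have k5 : Z = Φ.bar (Φ.W Φ'.t) := AddSubgroup.eq_of_le_of_card_ge inf_le_left (by
    rw [s.card_R] at k4
    exact Nat.le_of_mul_le_mul_left (((s.card_bar' (s.R_le_W _) (s.W_le p.tN)).le.trans k2).trans k4) Nat.card_pos)
  refine hA ((s.π_mem_bar (s.R_le_K p.tN) hu).1 ?_)
  rw [s.pp_W p.tN p.tR hl, ← k5]
  exact mem_pp.2 fun x hx => by rw [show f (Φ.π u) x = 0 from hx.2, map_zero]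

end F1b

theorem Eq1.false (p : Eq1 f qq d Φ Φ') : False := by
  have key : ∀ (n : ℕ) (Φ Φ' : Fl G F V), Eq1 f qq d Φ Φ' → Nat.card G - Nat.card ↥(Φ.Q ⊓ C1 Φ'.t) ≠ n := by
    intro n
    induction n using Nat.strong_induction_on with
    | _ n ih =>
      rintro Φ Φ' p rfl
      refine F1b.aux p fun Φ₁ Φ₂ p' => not_lt.1 fun hl => ih _ ?_ Φ₁ Φ₂ p' rfl
      have := (Φ₁.Q ⊓ C1 Φ₂.t).card_le_card_group
      omega
  exact key _ _ _ p rfl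

theorem Hy.f1 (h : Hy f qq d Φ) (c : Cj Φ Φ') (hR : Φ'.R = Φ.R) (hc : Commute Φ'.t Φ.t) :
    Φ'.t = Φ.t := by_contra fun ne => Eq1.false ⟨h, c, ne, hc, hR⟩

theorem Hy.f1' (h : Hy f qq d Φ) {P : Subgroup G} (hP : IsPGroup 2 P) (hN : P ≤ Ns Φ.R)
    (ht : Φ.t ∈ P) : P ≤ C1 Φ.t :=
  cent_of hP ht fun x hx hc => h.f1 (Cj.cn Φ x) (by rw [Fl.cn_R, mem_Ns_iff.1 (hN hx)]) hc

end Cfsg.Lib.FZ
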