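import Cfsg.Agent.FZ.B4

/-!
# Transport and first consequences of the hypotheses
-/

set_option autoImplicit false
set_option linter.unusedSectionVars false

namespace Cfsg.Lib.FZ

open Subgroup Cfsg.Lib.Trans Cfsg.Lib.Gold
open scoped commutatorElement

variable {G F V : Type*} [Group G] [Field F] [AddCommGroup V] [Module F V] [Finite G] [Finite F]
  [Finite V] {f : V →ₗ[F] V →ₗ[F] F} {qq : V → F} {d : ℕ} {Φ Φ' : Fl G F V}

namespace H0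

theorem qt_cn {k g : G} : (Φ.cn k).Qt (k * g * k⁻¹) ↔ Φ.Qt g := by
  rw [Fl.Qt, Fl.Qt, Fl.cn_Q, Fl.cn_t, conj_mul', conj_mem_cj, conj_mem_cj]

theorem isConj_cn {k a b : G} : IsConj (k * a * k⁻¹) (k * b * k⁻¹) ↔ IsConj a b :=
  ⟨fun h => ((isConj_iff.2 ⟨k, rfl⟩).trans h).trans (isConj_iff.2 ⟨k, rfl⟩).symm,
    fun h => ((isConj_iff.2 ⟨k, rfl⟩).symm.trans h).trans (isConj_iff.2 ⟨k, rfl⟩)⟩

theorem conj_eq_one {k a : G} : k * a * k⁻¹ = 1 ↔ a = 1 := by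
  rw [mul_inv_eq_one, mul_eq_left]

end H0

namespace Hy0
variable (h : Hy0 f qq d Φ) {g r : G} {P : Subgroup G}
include h

theorem cn (g : G) : Hy0 f qq d (Φ.cn g) where
  toSp := h.toSp.cn g
  t2 := by rw [Fl.cn_t, conj_mul', h.t2]; group
  n1 a ha := by
    rw [Fl.cn_t, Fl.cn_ι, Fl.cn_Q, ← cj_C1, ← cj_C1, ← cj_Ns, ← cj_inf]
    exact cj_mono _ (h.n1 a ha)
  QT := cj_mono _ h.QT
  TC := by rw [Fl.cn_t, Fl.cn_T, ← cj_C1]; exact cj_mono _ h.TC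
  T2 := isPGroup_cj h.T2 g
  TN := by rw [Fl.cn_Q, Fl.cn_T, ← cj_Ns]; exact cj_mono _ h.TN
  syl P hP hC := by
    obtain ⟨P, rfl⟩ := cj_surj g P
    rw [Fl.cn_t, ← cj_C1] at hC ⊢
    obtain ⟨c, hc, e⟩ := h.syl P (isPGroup_cj_iff.1 hP) (cj_le_cj.1 hC)
    refine ⟨g * c * g⁻¹, conj_mem_cj.2 hc, ?_⟩
    rw [Fl.cn_T, cj_cj, inv_mul_cancel_right, ← cj_cj]
    exact cj_mono _ e
  RE := by rw [Fl.cn_R, Fl.cn_E]; exact cj_mono _ h.RE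
  EQ := cj_mono _ h.EQ
  cE := by rw [Fl.cn_E, card_cj, h.cE]
  rE e he := by
    obtain ⟨e, rfl⟩ := conj_surj g e
    obtain ⟨c, hc, hr⟩ := h.rE e (conj_mem_cj.1 he)
    refine ⟨g * c * g⁻¹, ?_, ?_⟩
    · rw [Fl.cn_t, ← cj_C1]; exact conj_mem_cj.2 hc
    · rw [Fl.cn_R, conj_inv', conj_mul', conj_mul']; exact conj_mem_cj.2 hr
  eT x hx hR e he := by
    obtain ⟨e, rfl⟩ := conj_surj g e
    obtain ⟨x, rfl⟩ := conj_surj g x
    rw [Fl.cn_R, ← cj_Cs] at hR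
    rw [Fl.cn_R, conj_inv', conj_inv', conj_mul', conj_mul', conj_mul']
    exact conj_mem_cj.2 (h.eT x (conj_mem_cj.1 hx) (conj_mem_cj.1 hR) e (conj_mem_cj.1 he))
  nc u hu := by
    obtain ⟨u, rfl⟩ := conj_surj g u
    rw [Fl.cn_t, H0.isConj_cn]
    exact h.nc u (conj_mem_cj.1 hu)
  mr x x2 hC hR hq := by
    obtain ⟨x, rfl⟩ := conj_surj g x
    rw [conj_mul', H0.conj_eq_one] at x2
    rw [Fl.cn_t, ← cj_C1, conj_mem_cj] at hC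
    rw [Fl.cn_R, ← cj_Cs, conj_mem_cj] at hR
    obtain ⟨u, hu, hl⟩ := h.mr x x2 hC hR (mt H0.qt_cn.2 hq)
    refine ⟨fun i => g * u i * g⁻¹, fun i => conj_mem_cj.2 (hu i), ?_⟩
    convert hl using 2 with i
    rw [Fl.cn_π]
    congr 1
    group
  lb x hc hne hT hR hP := by
    obtain ⟨x, rfl⟩ := conj_surj g x
    rw [Fl.cn_t, H0.isConj_cn] at hc
    rw [Fl.cn_R, ← cj_Cs, conj_mem_cj] at hR
    rw [Fl.cn_Q, ← cj_C1, ← cj_inf, card_cj]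
    refine h.lb x hc (fun e => hne (by rw [e, Fl.cn_t])) (conj_mem_cj.1 hT) hR fun P h2 hle => ?_
    have := hP (cj g P) (isPGroup_cj h2 g) (by
      rw [Fl.cn_t, ← cj_C1, ← cj_C1, ← cj_inf]; exact cj_mono _ hle)
    rwa [Fl.cn_T, ← cj_C1, ← cj_inf, card_cj, card_cj] at this

theorem QC : Φ.Q ≤ C1 Φ.t := h.QT.trans h.TC

theorem t_Cs : Φ.t ∈ Cs Φ.Q := mem_Cs.2 fun _ hu => mem_C1.1 (h.QC hu)

theorem Cs_Ns (hg : g ∈ C1 Φ.t) (hR : g ∈ Cs Φ.R) : g ∈ Ns Φ.Q :=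
  h.n1 1 one_ne_zero ⟨hg, Cs_le_C1 (Φ.ι_mem 1) hR⟩

theorem n1' (hr : r ∈ Φ.R) (h1 : r ≠ 1) : C1 Φ.t ⊓ C1 r ≤ Ns Φ.Q := by
  obtain ⟨c, rfl⟩ := h.toSp.mem_R.1 hr
  exact h.n1 c fun e => h1 (by rw [e, h.toSp.ι_zero])

theorem E_sq (hr : r ∈ Φ.E) : r * r = 1 := by
  obtain ⟨c, -, hc⟩ := h.rE r hr
  have := h.toSp.R_sq hc
  rwa [conj_mul', H0.conj_eq_one] at this

theorem mr' (g2 : g * g = 1) (hg : g ∈ C1 Φ.t) (hN : g ∈ Ns Φ.Q)
    (hc : Nat.card Φ.Q < Nat.card F ^ 6 * Nat.card (Φ.K g)) : Φ.Qt g := by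
  by_contra hq
  have s := h.toSp
  have hq0 : 0 < Nat.card F := Nat.card_pos
  apply hc.not_ge
  by_cases hR : g ∈ Cs Φ.R
  · obtain ⟨u, hu, hl⟩ := h.mr g g2 hg hR hq
    obtain ⟨S, hS⟩ := s.sub_W hN hR
    have h1 : Submodule.span F (Set.range fun i => Φ.π (g * u i * g⁻¹ * (u i)⁻¹)) ≤ S := by
      rw [Submodule.span_le]
      rintro _ ⟨i, rfl⟩
      have hw : g * u i * g⁻¹ * (u i)⁻¹ ∈ Φ.W g :=
        (s.mem_W hN).2 ⟨u i, hu i, 1, one_mem _, (mul_one _).symm⟩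
      have := (s.π_mem_bar (s.R_le_W g) (s.W_le hN hw)).2 hw
      rw [← hS] at this
      exact this
    have : Module.Finite F V := Module.Finite.of_finite
    have h2 := Submodule.finrank_mono h1
    rw [finrank_span_eq_card hl, Fintype.card_fin] at h2
    have h3 : Nat.card F ^ 6 ≤ Nat.card (Φ.bar (Φ.W g)) := by
      rw [← hS]
      show _ ≤ Nat.card S
      rw [Module.natCard_eq_pow_finrank (K := F) (V := S)]
      exact Nat.pow_le_pow_right hq0 h2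
    have h4 := s.card_KW hN
    rw [← s.card_bar' (s.R_le_W g) (s.W_le hN)] at h4
    refine Nat.le_of_mul_le_mul_left ?_ hq0
    rw [← h4]
    calc Nat.card F * (Nat.card F ^ 6 * Nat.card (Φ.K g))
        = Nat.card (Φ.K g) * (Nat.card F * Nat.card F ^ 6) := by ring
      _ ≤ _ := Nat.mul_le_mul_left _ (Nat.mul_le_mul_left _ h3)
  · rw [s.sl_card hN g2 hR, s.card_Q, ← pow_add]
    exact Nat.pow_le_pow_right hq0 (by have := s.d10; omega)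

theorem qt_card (hq : Φ.Qt g) : Nat.card Φ.Q ≤ Nat.card F * Nat.card ↥(Φ.Q ⊓ C1 g) := by
  rcases hq with hq | hq
  · exact h.toSp.card_C1 hq
  · refine (h.toSp.card_C1 hq).trans (Nat.mul_le_mul_left _ (Subgroup.card_le_of_le ?_))
    refine fun u hu => mem_inf.2 ⟨hu.1, mem_C1.2 ?_⟩
    have h1 := mem_C1.1 hu.2
    rw [← mul_assoc, mem_C1.1 (h.QC hu.1), mul_assoc, mul_assoc] at h1
    exact mul_left_cancel h1

theorem qt_comm (hq : Φ.Qt g) {u : G} (hu : u ∈ Φ.Q) : g * u * g⁻¹ * u⁻¹ ∈ Φ.R := by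
  rcases hq with hq | hq
  · exact h.toSp.comm_mem hq hu
  · have h1 := h.toSp.comm_mem hq hu
    have h2 := mem_C1.1 (h.QC hq)
    have h3 := mem_C1.1 (h.QC hu)
    have h4 : Φ.t * g = g * Φ.t := by
      rw [mul_assoc] at h2
      exact (mul_left_cancel h2).symm
    have : Φ.t * g * u * (Φ.t * g)⁻¹ * u⁻¹ = g * u * g⁻¹ * u⁻¹ := by
      rw [h4, mul_assoc g, ← h3]; group
    rwa [this] at h1

theorem qt_mul (hq : Φ.Qt g) {k : G} (hk : Φ.Qt k) : Φ.Qt (g * k) := by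
  rcases hq with hq | hq <;> rcases hk with hk | hk
  · exact Or.inl (mul_mem hq hk)
  · refine Or.inr ?_
    rw [← mul_assoc, ← mem_C1.1 (h.QC hq), mul_assoc]
    exact mul_mem hq hk
  · exact Or.inr (by rw [← mul_assoc]; exact mul_mem hq hk)
  · refine Or.inl ?_
    have := mul_mem hq hk
    rwa [← mul_assoc, mem_C1.1 (h.QC hq), ← mul_assoc, h.t2, one_mul] at this

theorem flag (hP : IsPGroup 2 P) (hC : P ≤ C1 Φ.t) :
    ∃ Φ₁, Cj Φ Φ₁ ∧ Φ₁.t = Φ.t ∧ P ≤ Φ₁.T := by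
  obtain ⟨c, hc, e⟩ := h.syl P hP hC
  refine ⟨Φ.cn c⁻¹, Cj.cn _ _, ?_, cj_le_iff_le_cj_inv.1 e⟩
  rw [Fl.cn_t, inv_inv, mul_assoc, ← mem_C1.1 hc, inv_mul_cancel_left]

end Hy0

theorem Hy.cn (h : Hy f qq d Φ) (g : G) : Hy f qq d (Φ.cn g) where
  toHy0 := h.toHy0.cn g
  ntr r hr hc := by
    obtain ⟨r, rfl⟩ := conj_surj g r
    rw [Fl.cn_R, conj_mem_cj] at hr
    rw [Fl.cn_t, conj_mul', H0.isConj_cn] at hc
    exact H0.conj_eq_one.2 (h.ntr r hr hc)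

theorem Hy.of_cj (h : Hy f qq d Φ) (c : Cj Φ Φ') : Hy f qq d Φ' := by
  obtain ⟨g, rfl⟩ := c
  exact h.cn g

theorem Hy.ntrE (h : Hy f qq d Φ) {e : G} (he : e ∈ Φ.E) (hc : IsConj Φ.t (Φ.t * e)) : e = 1 := by
  obtain ⟨c, hc', hr⟩ := h.rE e he
  refine H0.conj_eq_one.1 (h.ntr _ hr (hc.trans (isConj_iff.2 ⟨c, ?_⟩)))
  rw [← mul_assoc, mem_C1.1 hc']
  group

end Cfsg.Lib.FZ
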