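import Cfsg.Agent.FZ.RL
import Cfsg.Agent.Solv.Conj

/-! Maximal nontrivial intersections of root groups: the basic facts. -/

set_option autoImplicit false
set_option linter.unusedSectionVars false

namespace Cfsg.Lib.FZ

open Subgroup Cfsg.Lib.Trans Cfsg.Lib.Gold
open scoped commutatorElement

variable {G F V : Type*} [Group G] [Field F] [AddCommGroup V] [Module F V] [Finite G] [Finite F]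
  [Finite V] {f : V →ₗ[F] V →ₗ[F] F} {qq : V → F} {d : ℕ} {Φ Φ' : Fl G F V}

namespace II1

theorem conj_eq {t : G} (t2 : t * t = 1) (y : G) : y * t * y⁻¹ = t * (t * y * t⁻¹ * y⁻¹) := by
  rw [inv_eq_of_sq t2, ← mul_assoc, ← mul_assoc, ← mul_assoc, t2, one_mul]

theorem mem_cj_of {x r : G} {R : Subgroup G} (hr : r ∈ R) (hx : x ∈ C1 r) : r ∈ cj x R := by
  rwa [mem_cj, mul_assoc, ← mem_C1.1 hx, inv_mul_cancel_left]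

end II1

namespace Mx
variable (p : Mx f qq d Φ Φ')
include p

theorem symm : Mx f qq d Φ' Φ :=
  ⟨p.h.of_cj p.c, p.c.symm, p.ne.symm, p.cm.symm, inf_comm Φ.R Φ'.R ▸ p.nb,
    fun _ _ c1 c2 ne cm => inf_comm Φ.R Φ'.R ▸ p.mx _ _ (p.c.trans c1) (p.c.trans c2) ne cm⟩

theorem II1_z : ∃ z ∈ Φ.R, z ∈ Φ'.R ∧ z ≠ 1 := by
  obtain ⟨⟨z, hz⟩, h1⟩ := ne_bot_iff_exists_ne_one.1 p.nb
  exact ⟨z, hz.1, hz.2, fun e => h1 (Subtype.ext e)⟩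

theorem II1_half : Φ.Q ⊓ C1 Φ'.t ≤ Ns Φ'.Q ∧ Φ.t ∈ Ns Φ'.Q := by
  obtain ⟨z, hz, hz', h1⟩ := p.II1_z
  have h := p.symm.h.n1' hz' h1
  exact ⟨fun a ha => h ⟨ha.2, Cs_le_C1 hz (p.h.Q_le_Cs ha.1)⟩,
    h ⟨mem_C1.2 p.cm.symm, Cs_le_C1 (p.h.R_le_Q hz) p.h.t_Cs⟩⟩

theorem pr : Pr f qq d Φ Φ' :=
  ⟨p.h, p.c, p.ne, p.cm, p.II1_half.1, p.symm.II1_half.1, p.II1_half.2, p.symm.II1_half.2⟩

theorem tR : Φ.t ∈ Cs Φ'.R := by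
  by_contra hR
  obtain ⟨z, hz, hz', h1⟩ := p.II1_z
  obtain ⟨r, -, rfl⟩ := p.symm.h.sl_R p.pr.n1 p.h.t2 hR hz'
    (mem_C1.1 (Cs_le_C1 (p.h.R_le_Q hz) p.h.t_Cs))
  exact h1 (p.h.ntr _ hz (isConj_iff.2 ⟨r, II1.conj_eq p.h.t2 r⟩))

theorem two_le : 2 ≤ Nat.card ↥(Φ.R ⊓ Φ'.R) := (one_lt_card_iff_ne_bot _).2 p.nb

theorem ne_R : ¬ Φ.R ≤ Φ'.R := fun h => p.ne (p.h.f1 p.c (eq_of_le_of_card_ge h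
  (by rw [p.h.card_R, p.symm.h.card_R])).symm p.cm)

theorem qt {r : G} (hr : r ∈ Φ.R) (hq : Φ'.Qt r) : r ∈ Φ'.R := by
  by_contra hn
  have h' := p.symm.h
  have ht : Φ.t ∈ C1 r := Cs_le_C1 (p.h.R_le_Q hr) p.h.t_Cs
  have hP : Φ'.Q ⊓ C1 r ⊔ zpowers Φ.t ≤ C1 r ⊓ Cs Φ'.R :=
    sup_le (le_inf inf_le_right (inf_le_left.trans h'.Q_le_Cs)) (zpowers_le.2 ⟨ht, p.tR⟩)
  have hc : Φ'.Q ⊓ C1 r ⊔ zpowers Φ.t ≤ C1 Φ.t := by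
    refine cent_of (IsPGroup.to_sup_of_normal_left' (h'.two_Q.to_le inf_le_left)
      (isPGroup_of_sq ?_) (zpowers_le.2 (mem_Ns_inf p.pr.n1 (mem_Ns_C1 (mem_C1.1 ht)))))
      (mem_sup_right (mem_zpowers _)) fun x hx hc => ?_
    · rintro _ ⟨k, rfl⟩
      rw [← (Commute.refl Φ.t).mul_zpow, p.h.t2, one_zpow]
    · by_contra hne
      have e := eq_of_le_of_card_ge (H := Φ.R ⊓ Φ'.R) (K := Φ.R ⊓ (Φ.cn x).R) (fun z hz =>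
        ⟨hz.1, Φ.cn_R x ▸ II1.mem_cj_of hz.1 (Cs_le_C1 hz.2 (hP hx).2)⟩)
        (p.mx Φ (Φ.cn x) (Cj.refl Φ) (Cj.cn Φ x) hne hc)
      exact hn (e.ge ⟨hr, Φ.cn_R x ▸ II1.mem_cj_of hr (hP hx).1⟩).2
  have := Subgroup.card_le_of_le (le_inf inf_le_left (le_sup_left.trans hc))
  exact absurd p.pr.big (not_lt.2 ((h'.qt_card hq).trans (Nat.mul_le_mul_left _ this)))

theorem QR : Φ.Q ⊓ Φ'.R = Φ.R ⊓ Φ'.R :=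
  le_antisymm (fun _ hx => ⟨p.symm.qt hx.2 (Or.inl hx.1), hx.2⟩) (inf_le_inf_right _ p.h.R_le_Q)

theorem R1_inf : Φ'.R1 Φ.t ⊓ Φ.R = ⊥ := eq_bot_iff.2 fun z hz => by
  obtain ⟨y, -, rfl⟩ := (p.symm.h.mem_R1 p.pr.n1).1 hz.1
  exact p.h.ntr _ hz.2 (isConj_iff.2 ⟨y, II1.conj_eq p.h.t2 y⟩)

theorem card_sup : Nat.card ↥(Φ'.R1 Φ.t ⊔ (Φ.R ⊓ Φ'.R)) =
    Nat.card (Φ'.R1 Φ.t) * Nat.card ↥(Φ.R ⊓ Φ'.R) :=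
  Solv.card_sup_of_disjoint_of_le_normalizer (inf_le_right.trans (p.symm.h.R_le_Cs.trans
    ((Cs_anti ((p.symm.h.R1_le p.pr.n1).trans p.symm.h.R_le_Q)).trans Cs_le_Ns)))
    (by rw [← inf_assoc, p.R1_inf, bot_inf_eq])

theorem rho : Nat.card (Φ'.R1 Φ.t) * Nat.card ↥(Φ.R ⊓ Φ'.R) ≤ Nat.card F := by
  rw [← p.card_sup, ← p.symm.h.card_R]
  exact Subgroup.card_le_of_le (sup_le (p.symm.h.R1_le p.pr.n1) inf_le_right)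

theorem step {y : G} (hy : y ∈ Φ'.Q) (hb : Φ.t * y * Φ.t⁻¹ * y⁻¹ ≠ 1)
    (hc : Φ.t * y * Φ.t⁻¹ * y⁻¹ ∈ C1 Φ.t) : Mx f qq d Φ (Φ.cn y) := by
  have hle : Φ.R ⊓ Φ'.R ≤ Φ.R ⊓ (Φ.cn y).R := fun z hz =>
    ⟨hz.1, Φ.cn_R y ▸ II1.mem_cj_of hz.1 (Cs_le_C1 hz.2 (p.symm.h.Q_le_Cs hy))⟩
  refine ⟨p.h, Cj.cn Φ y, fun e => hb ?_, ?_, fun e => p.nb (eq_bot_iff.2 (hle.trans e.le)),
    fun _ _ c1 c2 ne cm => (p.mx _ _ c1 c2 ne cm).trans (Subgroup.card_le_of_le hle)⟩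
  · rwa [Fl.cn_t, II1.conj_eq p.h.t2, mul_eq_left] at e
  · rw [Fl.cn_t, II1.conj_eq p.h.t2]
    exact (Commute.refl _).mul_left (mem_C1.1 hc)

theorem phi {a b : G} (ha : a ∈ Φ.Q ⊓ C1 Φ'.t ⊓ Cs Φ'.R) (hb : b ∈ Φ.Q ⊓ C1 Φ'.t ⊓ Cs Φ'.R) :
    a * b * a⁻¹ * b⁻¹ ∈ Φ'.R :=
  p.qt (p.h.comm_mem ha.1.1 hb.1.1)
    (p.pr.rl p.tR (fun _ hx => p.qt hx.1 (Or.inl hx.2)) ha hb)

end Mx

end Cfsg.Lib.FZ
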