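import Cfsg.Agent.FZ.II1

/-! Maximal nontrivial intersections of root groups: `C_Q(t')` centralises `R'`. -/

set_option autoImplicit false
set_option linter.unusedSectionVars false

namespace Cfsg.Lib.FZ

open Subgroup Cfsg.Lib.Trans Cfsg.Lib.Gold
open scoped commutatorElement

variable {G F V : Type*} [Group G] [Field F] [AddCommGroup V] [Module F V] [Finite G] [Finite F]
  [Finite V] {f : V →ₗ[F] V →ₗ[F] F} {qq : V → F} {d : ℕ} {Φ Φ' : Fl G F V}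

namespace II2

theorem arith {q d k b c D w n ρ ε : ℕ} (hq : 2 ≤ q) (hd : 10 ≤ d) (hε : 2 ≤ ε) (hρ : 0 < ρ)
    (h1 : c ^ 2 ≤ k) (h2 : b ≤ D * c) (h3 : k = ρ * b) (h4 : D * w ≤ k * n)
    (h5 : k * w = q ^ (2 * d)) (h6 : q ^ d ≤ k) (h7 : k ≤ q ^ (d + 1))
    (h8 : n * ε * (ρ * ε) ^ 2 ≤ ε * q ^ 2) : False := by
  have q0 : 0 < q := by omega
  have k0 : 0 < k := (pow_pos q0 d).trans_le h6
  have a1 : D ≤ q ^ 2 * n := Nat.le_of_mul_le_mul_left (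
    calc q ^ (2 * d) * D = k * (D * w) := by rw [← h5]; ring
      _ ≤ q ^ (d + 1) * (q ^ (d + 1) * n) :=
        Nat.mul_le_mul h7 (h4.trans (Nat.mul_le_mul_right n h7))
      _ = q ^ (2 * d) * (q ^ 2 * n) := by ring) (pow_pos q0 _)
  have e0 : 0 < ε := by omega
  have a2 : ρ * n ≤ q ^ 2 := Nat.le_of_mul_le_mul_left (
    calc ε * (ρ * n) = n * ε * (ρ * 1) := by ring
      _ ≤ n * ε * (ρ * (ρ * ε * ε)) :=
        Nat.mul_le_mul_left _ (Nat.mul_le_mul_left _ (Nat.mul_pos (Nat.mul_pos hρ e0) e0))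
      _ = n * ε * (ρ * ε) ^ 2 := by ring
      _ ≤ ε * q ^ 2 := h8) e0
  have a3 : k ≤ (ρ * D) ^ 2 := Nat.le_of_mul_le_mul_left (
    calc k * k = (ρ * b) ^ 2 := by rw [← h3, sq]
      _ ≤ (ρ * (D * c)) ^ 2 := Nat.pow_le_pow_left (Nat.mul_le_mul_left ρ h2) 2
      _ = c ^ 2 * (ρ * D) ^ 2 := by ring
      _ ≤ k * (ρ * D) ^ 2 := Nat.mul_le_mul_right _ h1) k0
  have a4 : ρ * D ≤ q ^ 4 :=
    calc ρ * D ≤ ρ * (q ^ 2 * n) := Nat.mul_le_mul_left ρ a1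
      _ = q ^ 2 * (ρ * n) := by ring
      _ ≤ q ^ 2 * q ^ 2 := Nat.mul_le_mul_left _ a2
      _ = _ := by ring
  have a5 := h6.trans (a3.trans (Nat.pow_le_pow_left a4 2))
  rw [← pow_mul] at a5
  have := (Nat.pow_le_pow_iff_right (by omega)).1 a5
  omega

theorem bar_mono (h : Sp f qq d Φ) {X Y : Subgroup G} (hX : X ≤ Y) : Φ.bar X ≤ Φ.bar Y :=
  fun _ hz => h.mem_bar.2 ((h.mem_bar.1 hz).imp fun _ hu => ⟨hX hu.1, hu.2⟩)

end II2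

namespace Mx
variable (p : Mx f qq d Φ Φ')
include p

theorem iso : Nat.card (Φ.bar (Φ.Q ⊓ C1 Φ'.t ⊓ Cs Φ'.R)) ≤ Nat.card F ^ d := by
  have h := p.h.toSp
  let S : AddSubgroup F :=
    { carrier := {c | Φ.ι c ∈ Φ'.R}
      zero_mem' := by rw [Set.mem_ofPred_eq, h.ι_zero]; exact one_mem _
      add_mem' := fun ha hb => by rw [Set.mem_ofPred_eq, h.ι_add]; exact mul_mem ha hb
      neg_mem' := fun {c} hc => by
        rwa [neg_eq_of_add_eq_zero_left (show c + c = 0 by rw [← two_mul, h.two, zero_mul])] }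
  obtain ⟨lam, hl, hS⟩ := exists_lam h.two (S := S) fun e => p.ne_R fun r hr => by
    obtain ⟨c, rfl⟩ := h.mem_R.1 hr
    exact e.ge (AddSubgroup.mem_top c)
  have := h.alt.iso_le hl (X := Φ.bar (Φ.Q ⊓ C1 Φ'.t ⊓ Cs Φ'.R)) fun x hx y hy => by
    obtain ⟨a, ha, ha', rfl⟩ := h.mem_bar.1 hx
    obtain ⟨b, hb, hb', rfl⟩ := h.mem_bar.1 hy
    exact hS _ (show Φ.ι _ ∈ Φ'.R from h.comm a ha' b hb' ▸ p.phi ha hb)
  rw [h.cV, mul_comm, pow_mul] at this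
  exact (Nat.pow_le_pow_iff_left two_ne_zero).1 this

theorem cardK : Nat.card (Φ.K Φ'.t) ≤ Nat.card F ^ (d + 2) := by
  have h := p.h.toSp
  have h1 := p.symm.h.cyc2' (h.two_Q.to_le inf_le_left) p.pr.nA (Y := Φ.R)
    (le_inf h.R_le_Q fun r hr => mem_C1.2 (mem_Cs.1 p.symm.tR r hr)) fun x hx => h.sq_mem hx.1
  rw [← h.card_bar' le_sup_right (sup_le (inf_le_left.trans inf_le_left) h.R_le_Q),
    h.bar_sup_R (inf_le_left.trans inf_le_left)] at h1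
  have h2 := (Nat.mul_le_mul_left _ p.symm.two_le).trans p.symm.rho
  calc _ = _ := h.card_K p.pr.n2
    _ ≤ Nat.card (Φ.R1 Φ'.t) * (2 * (Nat.card F * Nat.card F ^ d)) := Nat.mul_le_mul_left _
      (h1.trans (Nat.mul_le_mul_left _ (Nat.mul_le_mul_left _ p.iso)))
    _ = Nat.card (Φ.R1 Φ'.t) * 2 * Nat.card F ^ (d + 1) := by ring
    _ ≤ Nat.card F * Nat.card F ^ (d + 1) := Nat.mul_le_mul_right _ h2
    _ = _ := by ring

theorem cent : Φ.Q ⊓ C1 Φ'.t ≤ Cs Φ'.R := fun a ha => by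
  by_contra hR
  have h := p.symm.h.toSp
  have n1 := p.pr.n1
  have q0 : 0 < Nat.card F := Nat.card_pos
  obtain ⟨φ, σ, l, c, hc, hφ, -, hs⟩ := h.semi (p.pr.nA ha) hR ⟨2, p.h.pow4 ha.1⟩
  obtain ⟨S, hS⟩ := h.sub_K n1 p.tR
  have RB : Φ'.R ≤ Φ'.Q ⊓ C1 Φ.t := le_inf h.R_le_Q fun r hr => mem_C1.2 (mem_Cs.1 p.tR r hr)
  have BK := II2.bar_mono h (h.C_le_K Φ.t)
  let ψ : V →+ V := φ.toAddMonoidHom - AddMonoidHom.id V
  have c1 := semi_fix φ.toAddMonoidHom σ hs hc S (X := Φ'.bar (Φ'.Q ⊓ C1 Φ.t) ⊓ ψ.ker)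
    fun v hv => ⟨hS.ge (BK hv.1), sub_eq_zero.1 hv.2⟩
  rw [show Nat.card S = Nat.card (Φ'.bar (Φ'.K Φ.t)) from hS ▸ rfl] at c1
  have c2 := card_le_of_map ψ (X := Φ'.bar (Φ'.Q ⊓ C1 Φ.t)) (Z := ψ.ker)
    (Y := Φ'.bar (Φ.Q ⊓ Φ'.Q)) bot_le (fun x hx => by
      obtain ⟨b, hb, hb', rfl⟩ := h.mem_bar.1 hx
      refine h.mem_bar.2 ⟨_, p.pr.AB ha hb, (p.pr.AB ha hb).2, ?_⟩
      rw [h.π_mul _ (mem_normalizer_conj (p.pr.nA ha) hb') _ (inv_mem hb'), h.π_inv hb', ← hφ b hb']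
      exact (sub_eq_iff_eq_add.2
        (by rw [add_assoc, AddMonoidHom.id_apply, h.alt.add_self, add_zero]; rfl)).symm)
    fun x _ hx => hx
  rw [AddSubgroup.card_bot, mul_one] at c2
  have k1 := h.card_bar' (h.R_le_K n1) (h.K_le Φ.t)
  have k2 := h.card_bar' (h.R_le_W Φ.t) (h.W_le n1)
  have c3 : Nat.card (Φ'.bar (Φ'.K Φ.t)) =
      Nat.card (Φ'.R1 Φ.t) * Nat.card (Φ'.bar (Φ'.Q ⊓ C1 Φ.t)) :=
    Nat.eq_of_mul_eq_mul_left q0 (by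
      rw [k1, h.card_K n1, ← h.card_bar' RB inf_le_left, mul_left_comm])
  have c4 := (card_le_of_map (AddMonoidHom.id V) (X := Φ'.bar (Φ.Q ⊓ Φ'.Q))
    (Z := Φ'.bar (Φ'.W Φ.t ⊓ Φ.Q)) (II2.bar_mono h (h.W_le_K n1 p.h.t2))
    (fun x hx => BK (II2.bar_mono h (le_inf inf_le_right (inf_le_left.trans p.h.QC)) hx))
    fun x hx hw => by
      obtain ⟨u, hu, hu', rfl⟩ := h.mem_bar.1 hx
      exact h.mem_bar.2 ⟨u, ⟨(h.π_mem_bar (h.R_le_W _) hu').1 hw, hu.1⟩, hu', rfl⟩).trans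
    (Nat.mul_le_mul_left _ (AddSubgroup.card_le_of_le inf_le_right))
  have c5 : Nat.card (Φ'.bar (Φ'.K Φ.t)) * Nat.card (Φ'.bar (Φ'.W Φ.t)) = Nat.card F ^ (2 * d) :=
    Nat.eq_of_mul_eq_mul_left (Nat.mul_pos q0 q0) (by
      rw [mul_mul_mul_comm, k1, k2, h.card_KW n1, h.card_Q]; ring)
  have c6 := h.le_card_K n1 p.h.t2
  have c7 := p.symm.cardK
  rw [← k1, pow_succ'] at c6 c7
  have c8 := p.pr.cardN p.tR
  have c9 := h.card_bar (Φ'.W Φ.t ⊓ Φ.Q)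
  rw [inf_assoc, inf_of_le_right (inf_le_right.trans (h.R_le_W _)),
    inf_of_le_left (inf_le_left.trans (h.W_le n1)), p.QR] at c9
  rw [p.QR, p.card_sup, ← c9] at c8
  exact II2.arith h.two_le h.d10 p.two_le Nat.card_pos c1 c2 c3 c4 c5
    (Nat.le_of_mul_le_mul_left c6 q0) (Nat.le_of_mul_le_mul_left c7 q0) c8

end Mx

end Cfsg.Lib.FZ
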