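import Cfsg.Agent.FZ.II2

/-! # The fusion `t ∼ t z`: the commutator space of `t'` is totally singular -/

set_option autoImplicit false
set_option linter.unusedSectionVars false

namespace Cfsg.Lib.FZ

open Subgroup Cfsg.Lib.Trans Cfsg.Lib.Gold
open scoped commutatorElement

namespace II3

theorem exists_sq {F : Type*} [Field F] [Finite F] (h2 : (2 : F) = 0) (c : F) :
    ∃ e : F, e ^ 2 = c := by
  refine Finite.surjective_of_injective (f := fun e : F => e ^ 2) (fun x y h => ?_) c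
  have k : (x - y) ^ 2 = 0 := by
    have h' : x ^ 2 = y ^ 2 := h
    linear_combination h' + (y ^ 2 - x * y) * h2
  exact sub_eq_zero.1 (pow_eq_zero_iff two_ne_zero |>.1 k)

theorem card_sub {F V : Type*} [Field F] [AddCommGroup V] [Module F V] [Finite V]
    (S : Submodule F V) : ∃ k, Nat.card S.toAddSubgroup = Nat.card F ^ k :=
  ⟨Module.finrank F S, Module.natCard_eq_pow_finrank (K := F) (V := S)⟩

theorem pow_eq {q k d : ℕ} (hq : 2 ≤ q) (h1 : q ^ d ≤ q ^ k) (h2 : q ^ k < q ^ (d + 1)) :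
    k = d := by
  have a := (Nat.pow_le_pow_iff_right (by omega : 1 < q)).1 h1
  have b := (Nat.pow_lt_pow_iff_right (by omega : 1 < q)).1 h2
  omega

end II3

variable {G F V : Type*} [Group G] [Field F] [AddCommGroup V] [Module F V] [Finite G] [Finite F]
  [Finite V] {f : V →ₗ[F] V →ₗ[F] F} {qq : V → F} {d : ℕ} {Φ Φ' : Fl G F V}

namespace Mx
variable (p : Mx f qq d Φ Φ')
include p

theorem full : Φ.K Φ'.t = Φ.Q ⊓ C1 Φ'.t ∧ Φ.W Φ'.t = Φ.Q ⊓ C1 Φ'.t ∧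
    (∀ u ∈ Φ.K Φ'.t, u * u = 1) ∧ Nat.card ↥(Φ.Q ⊓ C1 Φ'.t) = Nat.card F ^ (d + 1) ∧
    Φ.R1 Φ'.t = ⊥ := by
  have h := p.h.toHy0.toSp
  have hN : Φ'.t ∈ Ns Φ.Q := p.pr.n2
  have hR : Φ'.t ∈ Cs Φ.R := p.symm.tR
  have t2 : Φ'.t * Φ'.t = 1 := (p.h.of_cj p.c).t2
  have hq := h.two_le
  have RA : Φ.R ≤ Φ.Q ⊓ C1 Φ'.t := le_inf h.R_le_Q fun r hr => mem_C1.2 (mem_Cs.1 hR r hr)
  have i1 := p.iso
  rw [inf_eq_left.2 p.cent] at i1
  have i2 := h.card_bar' RA inf_le_left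
  have i3 := h.card_K hN
  have i4 := p.symm.rho
  have i5 := p.symm.two_le
  have i6 := h.card_bar' (h.R_le_K hN) (h.K_le _)
  have i7 := h.le_card_K hN t2
  obtain ⟨S, hS⟩ := h.sub_K hN hR
  obtain ⟨k, hk⟩ := II3.card_sub S
  rw [hS] at hk
  rw [hk] at i6
  have q0 : 0 < Nat.card F ^ d := by positivity
  have lt : Nat.card F ^ k < Nat.card F ^ (d + 1) := by
    refine Nat.lt_of_mul_lt_mul_left (a := Nat.card F) ?_
    have a1 : 2 * Nat.card (Φ.R1 Φ'.t) ≤ Nat.card F := by nlinarith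
    have a2 : Nat.card (Φ.R1 Φ'.t) < Nat.card F := by omega
    rw [i6, i3, ← i2, pow_succ']
    calc _ ≤ Nat.card (Φ.R1 Φ'.t) * (Nat.card F * Nat.card F ^ d) := by gcongr
      _ < _ := Nat.mul_lt_mul_of_pos_right a2 (by positivity)
  have le : Nat.card F ^ d ≤ Nat.card F ^ k := by
    refine Nat.le_of_mul_le_mul_left (c := Nat.card F) ?_ (by omega)
    rw [i6, ← pow_succ']
    exact i7
  obtain rfl := II3.pow_eq hq le lt
  have cK : Nat.card (Φ.K Φ'.t) = Nat.card F ^ (k + 1) := by rw [← i6, pow_succ']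
  have cW : Nat.card (Φ.W Φ'.t) = Nat.card F ^ (k + 1) := by
    have a := h.card_KW hN
    rw [cK, h.card_Q] at a
    refine Nat.eq_of_mul_eq_mul_left (show 0 < Nat.card F ^ (k + 1) by positivity) ?_
    rw [a]; ring
  have WK : Φ.W Φ'.t = Φ.K Φ'.t := eq_of_le_of_card_ge (h.W_le_K hN t2) (cK.trans cW.symm).le
  have sq : ∀ u ∈ Φ.K Φ'.t, u * u = 1 := fun w hw => by
    by_contra hn
    have wQ := h.K_le _ hw
    have n0 : qq (Φ.π w) ≠ 0 := fun e => hn ((h.sq_iff wQ).2 e)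
    refine p.nb (le_bot_iff.1 (p.symm.R1_inf ▸ inf_le_inf_right _ fun r hr => ?_))
    obtain ⟨c, rfl⟩ := h.mem_R.1 hr
    obtain ⟨e, he⟩ := II3.exists_sq h.two (c / qq (Φ.π w))
    have m : e • Φ.π w ∈ S.toAddSubgroup := S.smul_mem e
      (show Φ.π w ∈ S.toAddSubgroup from hS ▸ (h.π_mem_bar (h.R_le_K hN) wQ).2 hw)
    rw [hS] at m
    obtain ⟨y, hy, yQ, e1⟩ := h.mem_bar.1 m
    refine (h.mem_R1 hN).2 ⟨y, hy, ?_⟩
    rw [h.W_conj hN hR t2 (WK ▸ hy), h.sq y yQ, e1, h.qq_smul, he, div_mul_cancel₀ _ n0]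
  have fx : ∀ u ∈ Φ.K Φ'.t, Φ'.t * u * Φ'.t⁻¹ * u⁻¹ = 1 := fun u hu => by
    rw [h.W_conj hN hR t2 (WK ▸ hu), sq u hu]
  have KA : Φ.K Φ'.t = Φ.Q ⊓ C1 Φ'.t := le_antisymm (fun u hu => ⟨h.K_le _ hu, mem_C1.2 (by
    have := fx u hu
    rw [mul_inv_eq_one, mul_inv_eq_iff_eq_mul] at this
    exact this.symm)⟩) (h.C_le_K _)
  refine ⟨KA, WK.trans KA, sq, KA ▸ cK, eq_bot_iff.2 fun w hw => ?_⟩
  obtain ⟨y, hy, rfl⟩ := (h.mem_R1 hN).1 hw
  exact mem_bot.2 (fx y hy)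

end Mx

end Cfsg.Lib.FZ
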