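import Cfsg.Agent.FZ.II3

/-! # The fusion `t ∼ t z`: the root groups of commuting conjugates meet trivially -/

set_option autoImplicit false
set_option linter.unusedSectionVars false

namespace Cfsg.Lib.FZ

open Subgroup Cfsg.Lib.Trans Cfsg.Lib.Gold
open scoped commutatorElement

namespace II4

theorem card_le {G α : Type*} [Group G] [Finite G] [Finite α] {B M : Subgroup G} (hM : M ≤ B)
    (y : B → α) (h : ∀ b c : B, y b = y c → (b : G)⁻¹ * c ∈ M) :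
    Nat.card B ≤ Nat.card α * Nat.card M := by
  rw [card_eq_card_quotient_mul_card_subgroup (M.subgroupOf B),
    Nat.card_congr (subgroupOfEquivOfLe hM).toEquiv]
  refine Nat.mul_le_mul_right _ (Nat.card_le_card_of_injective (fun x => y x.out) fun a b e => ?_)
  rw [← a.out_eq, ← b.out_eq]
  exact QuotientGroup.eq.2 (h _ _ e)

variable {F V : Type*} [Field F] [AddCommGroup V] [Module F V] [Finite F] [Finite V]

theorem card_ker (S : Submodule F V) (g : V →ₗ[F] F) {x : V} (hx : x ∈ S) (h0 : g x ≠ 0) :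
    Nat.card F * Nat.card {y // y ∈ S ∧ g y = 0} ≤ Nat.card S := by
  rw [← Nat.card_prod]
  refine Nat.card_le_card_of_injective
    (fun z => (⟨z.1 • x + z.2.1, S.add_mem (S.smul_mem _ hx) z.2.2.1⟩ : S)) fun a b e => ?_
  have e1 : a.1 • x + a.2.1 = b.1 • x + b.2.1 := congrArg Subtype.val e
  have e2 := congrArg g e1
  rw [map_add, map_add, map_smul, map_smul, a.2.2.2, b.2.2.2, add_zero, add_zero] at e2
  have e3 : a.1 = b.1 := mul_right_cancel₀ h0 e2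
  rw [e3] at e1
  exact Prod.ext e3 (Subtype.ext (add_left_cancel e1))

end II4

variable {G F V : Type*} [Group G] [Field F] [AddCommGroup V] [Module F V] [Finite G] [Finite F]
  [Finite V] {f : V →ₗ[F] V →ₗ[F] F} {qq : V → F} {d : ℕ} {Φ Φ' : Fl G F V}

namespace II4

/-- A hyperplane contains a nonsingular vector. -/
theorem exists_ns (h : Sp f qq d Φ) (l : V) : ∃ v, f v l = 0 ∧ qq v ≠ 0 := by
  by_contra! hn
  obtain ⟨lam, hl, -⟩ := exists_lam h.two (S := ⊥) bot_ne_top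
  have a1 := card_le_of_map (f.flip l).toAddMonoidHom (X := ⊤)
    (Z := (f.flip l).toAddMonoidHom.ker) (Y := ⊤) (Y0 := ⊥) le_top (fun _ _ => trivial)
    fun x _ hx => hx
  rw [top_inf_eq, AddSubgroup.card_bot, mul_one, AddSubgroup.card_top, AddSubgroup.card_top,
    h.cV] at a1
  have a2 := h.alt.iso_le hl (X := (f.flip l).toAddMonoidHom.ker) fun x hx y hy => by
    have b := h.pol x y
    rw [hn x hx, hn y hy, hn _ (AddSubgroup.add_mem _ hx hy), zero_add, zero_add] at b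
    rw [← b, map_zero]
  rw [h.cV] at a2
  have a3 : Nat.card F ^ (2 * d * 2) ≤ Nat.card F ^ (2 + 2 * d) := by
    rw [pow_mul, pow_add]
    exact (Nat.pow_le_pow_left a1 2).trans (by rw [mul_pow]; gcongr)
  have a4 := (Nat.pow_le_pow_iff_right h.two_le).1 a3
  have := h.d10
  omega

/-- The elements of `B` which fix `u R`. -/
def fix (R B : Subgroup G) (hB : B ≤ Cs R) (u : G) : Subgroup G where
  carrier := {b | b ∈ B ∧ b * u * b⁻¹ * u⁻¹ ∈ R}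
  one_mem' := ⟨one_mem _, by simp⟩
  mul_mem' {b c} hb hc := ⟨mul_mem hb.1 hc.1, by
    have e : b * c * u * (b * c)⁻¹ * u⁻¹ =
      b * (c * u * c⁻¹ * u⁻¹) * b⁻¹ * (b * u * b⁻¹ * u⁻¹) := by group
    rw [e, ← mem_Cs.1 (hB hb.1) _ hc.2, mul_inv_cancel_right]
    exact mul_mem hc.2 hb.2⟩
  inv_mem' {b} hb := ⟨inv_mem hb.1, by
    have e : b⁻¹ * u * b⁻¹⁻¹ * u⁻¹ = b⁻¹ * ((b * u * b⁻¹ * u⁻¹)⁻¹ * b) := by group
    rw [e, mem_Cs.1 (hB hb.1) _ (inv_mem hb.2), inv_mul_cancel_left]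
    exact inv_mem hb.2⟩

theorem fix_eq_1' : type_of% @fix.eq_1 := @fix.eq_1

theorem π_s (h : Sp f qq d Φ) {b u : G} (hb : b ∈ Ns Φ.Q) (hu : u ∈ Φ.Q) :
    Φ.π (b * u * b⁻¹ * u⁻¹) = Φ.π (b * u * b⁻¹) + Φ.π u := by
  rw [h.π_mul _ ((mem_normalizer_iff.1 hb u).1 hu) _ (inv_mem hu), h.π_inv hu]

theorem card_D (p : Mx f qq d Φ Φ') : Nat.card (Φ.bar (Φ.Q ⊓ Φ'.Q)) < Nat.card F ^ 2 := by
  have h := p.h.toHy0.toSp
  have h' := (p.h.of_cj p.c).toHy0.toSp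
  obtain ⟨-, W', -, -, R'⟩ := p.symm.full
  have a1 := p.pr.cardN p.tR
  have e1 : Φ'.W Φ.t ⊓ Φ.Q = Φ.Q ⊓ Φ'.Q ⊓ Φ.Q := by
    rw [W']
    exact le_antisymm (fun x hx => ⟨⟨hx.2, hx.1.1⟩, hx.2⟩)
      fun x hx => ⟨⟨hx.1.2, p.h.toHy0.QC hx.2⟩, hx.2⟩
  have e2 : Φ.Q ⊓ Φ'.Q ⊓ Φ.R = Φ.R ⊓ Φ'.R := le_antisymm
    (fun x hx => ⟨hx.2, p.qt hx.2 (Or.inl hx.1.2)⟩)
    fun x hx => ⟨⟨h.R_le_Q hx.1, h'.R_le_Q hx.2⟩, hx.1⟩
  rw [R', bot_sup_eq, p.QR, e1, ← h.card_bar, e2] at a1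
  have a2 := p.two_le
  have a3 : 0 < Nat.card (Φ.bar (Φ.Q ⊓ Φ'.Q)) := Nat.card_pos
  generalize Nat.card ↥(Φ.R ⊓ Φ'.R) = e at *
  generalize Nat.card (Φ.bar (Φ.Q ⊓ Φ'.Q)) = x at *
  have a4 : x * e ^ 2 ≤ Nat.card F ^ 2 :=
    Nat.le_of_mul_le_mul_left (c := e) (by linarith) (by omega)
  have a5 : 2 ^ 2 ≤ e ^ 2 := Nat.pow_le_pow_left a2 2
  nlinarith

/-- `[A, B]` lies on a line. -/
theorem line (p : Mx f qq d Φ Φ') : ∃ l : V, ∀ b ∈ Φ'.Q ⊓ C1 Φ.t, ∀ a ∈ Φ.Q ⊓ C1 Φ'.t,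
    ∃ c : F, Φ.π (b * a * b⁻¹ * a⁻¹) = c • l := by
  have h := p.h.toHy0.toSp
  obtain ⟨S, hS⟩ := h.sub_K p.pr.n2 p.symm.tR
  rw [p.full.1] at hS
  obtain ⟨l, -, hl⟩ := exists_line (card_D p)
    {y | ∃ b ∈ Φ'.Q ⊓ C1 Φ.t, ∃ a ∈ Φ.Q ⊓ C1 Φ'.t, y = Φ.π (b * a * b⁻¹ * a⁻¹)} (by
      rintro _ ⟨b, hb, a, ha, rfl⟩ c
      obtain ⟨φ, k, -⟩ := h.lin (p.pr.nB hb) (p.symm.cent hb)
      have m : c • Φ.π a ∈ S.toAddSubgroup := S.smul_mem c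
        (show Φ.π a ∈ S.toAddSubgroup from hS ▸ h.mem_bar.2 ⟨a, ha, ha.1, rfl⟩)
      rw [hS] at m
      obtain ⟨x, hx, xQ, e⟩ := h.mem_bar.1 m
      have m' : b * x * b⁻¹ * x⁻¹ ∈ Φ.Q ⊓ Φ'.Q := by
        have := inv_mem (p.pr.AB hx hb)
        rwa [show (x * b * x⁻¹ * b⁻¹)⁻¹ = b * x * b⁻¹ * x⁻¹ by group] at this
      refine h.mem_bar.2 ⟨_, m', m'.1, ?_⟩
      rw [π_s h (p.pr.nB hb) xQ, π_s h (p.pr.nB hb) ha.1, ← k x xQ, ← k a ha.1, e, map_smul,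
        smul_add])
  exact ⟨l, fun b hb a ha => hl _ ⟨b, hb, a, ha, rfl⟩⟩

end II4

namespace Mx
variable (p : Mx f qq d Φ Φ')
include p

theorem false : False := by
  have h := p.h.toHy0.toSp
  have h' := (p.h.of_cj p.c).toHy0.toSp
  have hN : Φ'.t ∈ Ns Φ.Q := p.pr.n2
  have hR : Φ'.t ∈ Cs Φ.R := p.symm.tR
  obtain ⟨KA, WA, sq, cA, -⟩ := p.full
  obtain ⟨-, W', -, cB, R'⟩ := p.symm.full
  obtain ⟨lam, hl, -⟩ := exists_lam h.two (S := ⊥) bot_ne_top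
  have hp := h.pp_W hN hR hl
  obtain ⟨S, hS⟩ := h.sub_K hN hR
  rw [KA] at hS sq
  rw [KA, WA, ← hS] at hp
  have mS {x : V} : x ∈ S ↔ ∃ a ∈ Φ.Q ⊓ C1 Φ'.t, a ∈ Φ.Q ∧ Φ.π a = x := by
    rw [← h.mem_bar, ← hS]; rfl
  have qS : ∀ x ∈ S, qq x = 0 := fun x hx => by
    obtain ⟨a, ha, aQ, rfl⟩ := mS.1 hx
    exact (h.sq_iff aQ).1 (sq a ha)
  have pS : ∀ y, (∀ x ∈ S, f y x = 0) → y ∈ S := fun y hy =>
    show y ∈ S.toAddSubgroup from hp ▸ fun x hx => by rw [hy x hx, map_zero]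
  have cS : Nat.card S = Nat.card F ^ d := by
    have a := h.card_bar' (X := Φ.Q ⊓ C1 Φ'.t)
      (le_inf h.R_le_Q fun r hr => mem_C1.2 (mem_Cs.1 hR r hr)) inf_le_left
    rw [cA, ← hS, pow_succ'] at a
    exact Nat.eq_of_mul_eq_mul_left Nat.card_pos a
  obtain ⟨l, hline⟩ := II4.line p
  obtain ⟨v, v1, v2⟩ := II4.exists_ns h l
  obtain ⟨u, hu, rfl⟩ := h.π_surj v
  have key : ∀ b ∈ Φ'.Q ⊓ C1 Φ.t, Φ.π (b * u * b⁻¹ * u⁻¹) ∈ S ∧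
      f (Φ.π u) (Φ.π (b * u * b⁻¹ * u⁻¹)) = 0 := fun b hb => by
    obtain ⟨φ, k1, k2, k3, k4⟩ := h.lin (p.pr.nB hb) (p.symm.cent hb)
    rw [II4.π_s h (p.pr.nB hb) hu, ← k1 u hu]
    have m : φ (Φ.π u) + Φ.π u ∈ S := pS _ fun x hx => by
      obtain ⟨a, ha, aQ, rfl⟩ := mS.1 hx
      obtain ⟨c, hc⟩ := hline b⁻¹ (inv_mem hb) a ha
      rw [II4.π_s h (inv_mem (p.pr.nB hb)) aQ, inv_inv, ← k2 a aQ] at hc
      rw [map_add, LinearMap.add_apply, ← φ.apply_symm_apply (Φ.π a), k3, φ.apply_symm_apply,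
        ← map_add, hc, map_smul, v1, smul_zero]
    refine ⟨m, ?_⟩
    have a := h.pol (Φ.π u) (φ (Φ.π u) + Φ.π u)
    rw [add_left_comm, h.alt.add_self, add_zero, k4, qS _ m, add_zero] at a
    exact left_eq_add.1 a
  obtain ⟨x, hx, x0⟩ : ∃ x ∈ S, f (Φ.π u) x ≠ 0 := by
    by_contra! k
    exact v2 (qS _ (pS _ k))
  have c1 := II4.card_ker S (f (Φ.π u)) hx x0
  set M := II4.fix Φ.R (Φ'.Q ⊓ C1 Φ.t) p.symm.cent u with hM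
  have c2 := II4.card_le (B := Φ'.Q ⊓ C1 Φ.t) (M := M) (fun b hb => hb.1)
    (fun b => (⟨_, key b b.2⟩ : {y // y ∈ S ∧ f (Φ.π u) y = 0})) fun b c e => by
      have e1 : Φ.π (b * u * (b : G)⁻¹ * u⁻¹) = Φ.π (c * u * (c : G)⁻¹ * u⁻¹) :=
        congrArg Subtype.val e
      rw [II4.π_s h (p.pr.nB b.2) hu, II4.π_s h (p.pr.nB c.2) hu, add_left_inj, eq_comm,
        h.π_eq_iff ((mem_normalizer_iff.1 (p.pr.nB c.2) u).1 hu)
          ((mem_normalizer_iff.1 (p.pr.nB b.2) u).1 hu)] at e1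
      refine ⟨mul_mem (inv_mem b.2) c.2, ?_⟩
      have e2 : (b : G)⁻¹ * c * u * ((b : G)⁻¹ * c)⁻¹ * u⁻¹ =
        (b : G)⁻¹ * (c * u * (c : G)⁻¹ * (b * u * (b : G)⁻¹)⁻¹ * b) := by group
      rw [e2, mem_Cs.1 (p.symm.cent b.2) _ e1, inv_mul_cancel_left]
      exact e1
  rw [cS] at c1
  rw [cB] at c2
  have c3 : Nat.card F ^ 2 ≤ Nat.card M := by
    refine Nat.le_of_mul_le_mul_left (c := Nat.card F ^ d) ?_ (pow_pos Nat.card_pos _)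
    calc _ = Nat.card F * Nat.card F ^ (d + 1) := by ring
      _ ≤ _ := Nat.mul_le_mul_left _ c2
      _ ≤ _ := by rw [← mul_assoc]; gcongr
  obtain ⟨y, hy, y1, y2⟩ : ∃ y ∈ Φ'.Q, Φ.t * y * Φ.t⁻¹ * y⁻¹ ∈ M ∧ Φ.t * y * Φ.t⁻¹ * y⁻¹ ≠ 1 := by
    by_contra! k
    have a := h'.ani p.pr.n1 p.tR p.h.t2 (M := M) (E0 := Φ.R ⊓ Φ'.R)
      (fun b hb => ⟨W' ▸ hb.1, hb.1.2⟩) (fun e he => ⟨⟨⟨h'.R_le_Q he.2,
        p.h.toHy0.QC (h.R_le_Q he.1)⟩, h.comm_mem (h.R_le_Q he.1) hu⟩, he.2⟩) k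
    rw [R', bot_sup_eq] at a
    have a2 := p.two_le
    have a3 : 0 < Nat.card M := Nat.card_pos
    generalize Nat.card ↥(Φ.R ⊓ Φ'.R) = e at *
    have a4 : Nat.card M * e * e ≤ Nat.card M * 1 * e := by nlinarith
    have a5 := Nat.le_of_mul_le_mul_left (Nat.le_of_mul_le_mul_right a4 (by omega)) a3
    omega
  have nb := p.pr.nB y1.1
  refine v2 ((h.sq_iff hu).1 ((p.step hy y2 y1.1.2).full.2.2.1 u ?_))
  have e : (Φ.cn y).t = Φ.t * (Φ.t * y * Φ.t⁻¹ * y⁻¹) := by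
    rw [Fl.cn_t, inv_eq_of_sq p.h.t2, ← mul_assoc, ← mul_assoc, ← mul_assoc, p.h.t2, one_mul]
  rw [e, h.K_mul' nb p.h.toHy0.t_Cs]
  exact (h.mem_K nb).2 ⟨hu, y1.2⟩

end Mx

end Cfsg.Lib.FZ
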