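import Cfsg.Agent.FZ.Defs

/-!
# Linear algebra over a finite field of characteristic two: duality and semilinear maps
-/

set_option autoImplicit false
set_option linter.unusedSectionVars false

namespace Cfsg.Lib.FZ

open Subgroup Cfsg.Lib.Trans Cfsg.Lib.Gold
open scoped commutatorElement

namespace LA1

/-- Counting of orthogonal complements for a nondegenerate form on an elementary abelian group. -/
theorem card_orth {V : Type*} [AddCommGroup V] [Finite V] (h2 : ∀ v : V, v + v = 0)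
    (B : V →+ V →+ ZMod 2) (hs : ∀ v w, B v w = B w v) (nd : ∀ v, (∀ w, B v w = 0) → v = 0)
    (X Y : AddSubgroup V) (hY : ∀ v, v ∈ Y ↔ ∀ x ∈ X, B v x = 0) :
    Nat.card Y * Nat.card X = Nat.card V := by
  letI : Module (ZMod 2) V := AddCommGroup.zmodModule (n := 2) fun x => by
    rw [two_nsmul, h2]
  haveI : Fact (Nat.Prime 2) := ⟨Nat.prime_two⟩
  haveI : Module.Finite (ZMod 2) V := Module.Finite.of_finite
  let B' : LinearMap.BilinForm (ZMod 2) V :=
    LinearMap.mk₂ (ZMod 2) (fun v w => B v w) (fun a b c => by rw [map_add]; rfl)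
      (fun c a b => by
        have := ZMod.map_smul (B.flip b) c a
        simpa using this)
      (fun a b c => by rw [map_add]) (fun c a b => ZMod.map_smul (B a) c b)
  have hB : ∀ v w, B' v w = B v w := fun _ _ => rfl
  have hker : LinearMap.ker B' = ⊥ := by
    rw [eq_bot_iff]
    intro v hv
    rw [LinearMap.mem_ker] at hv
    exact (Submodule.mem_bot _).2 (nd v fun w => by rw [← hB, hv]; rfl)
  have h1 := LinearMap.BilinForm.finrank_add_finrank_orthogonal' (B := B')
    (AddSubgroup.toZModSubmodule 2 X)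
  rw [hker, inf_bot_eq, finrank_bot, add_zero] at h1
  have e : B'.orthogonal (AddSubgroup.toZModSubmodule 2 X) = AddSubgroup.toZModSubmodule 2 Y := by
    ext v
    rw [LinearMap.BilinForm.mem_orthogonal_iff, AddSubgroup.mem_toZModSubmodule, hY]
    refine forall_congr' fun x => ?_
    rw [AddSubgroup.mem_toZModSubmodule]
    refine imp_congr_right fun _ => ?_
    rw [hs]
    rfl
  rw [e] at h1
  have c1 : Nat.card X = Nat.card (ZMod 2) ^
      Module.finrank (ZMod 2) (AddSubgroup.toZModSubmodule 2 X) :=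
    Module.natCard_eq_pow_finrank (K := ZMod 2) (V := AddSubgroup.toZModSubmodule 2 X)
  have c2 : Nat.card Y = Nat.card (ZMod 2) ^
      Module.finrank (ZMod 2) (AddSubgroup.toZModSubmodule 2 Y) :=
    Module.natCard_eq_pow_finrank (K := ZMod 2) (V := AddSubgroup.toZModSubmodule 2 Y)
  have c3 : Nat.card V = Nat.card (ZMod 2) ^ Module.finrank (ZMod 2) V :=
    Module.natCard_eq_pow_finrank (K := ZMod 2) (V := V)
  rw [c1, c2, c3, ← pow_add, add_comm, h1]

theorem vtwo {F V : Type*} [Field F] [AddCommGroup V] [Module F V] (h2 : (2 : F) = 0) (v : V) :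
    v + v = 0 := by
  rw [← two_smul F v, h2, zero_smul]

theorem ftwo {F : Type*} [Field F] (h2 : (2 : F) = 0) (a : F) : a + a = 0 := by
  rw [← two_mul, h2, zero_mul]

end LA1

section LA1
variable {F V : Type*} [Field F] [AddCommGroup V] [Module F V] [Finite F] [Finite V]
  {f : V →ₗ[F] V →ₗ[F] F} {lam : F →+ ZMod 2} {X Y : AddSubgroup V}

theorem exists_lam (h2 : (2 : F) = 0) {S : AddSubgroup F} (hS : S ≠ ⊤) :
    ∃ lam : F →+ ZMod 2, lam ≠ 0 ∧ ∀ a ∈ S, lam a = 0 := by
  letI : Module (ZMod 2) F := AddCommGroup.zmodModule (n := 2) fun x => by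
    rw [two_nsmul, LA1.ftwo h2]
  haveI : Fact (Nat.Prime 2) := ⟨Nat.prime_two⟩
  have hlt : AddSubgroup.toZModSubmodule 2 S < ⊤ := by
    rw [lt_top_iff_ne_top]
    intro h
    apply hS
    rw [eq_top_iff]
    intro x _
    have : x ∈ AddSubgroup.toZModSubmodule 2 S := h ▸ Submodule.mem_top
    exact this
  obtain ⟨g, hg, hle⟩ := Submodule.exists_le_ker_of_lt_top _ hlt
  refine ⟨g.toAddMonoidHom, fun h => hg ?_, fun a ha => ?_⟩
  · ext x
    exact DFunLike.congr_fun h x
  · exact LinearMap.mem_ker.1 (hle (show a ∈ AddSubgroup.toZModSubmodule 2 S from ha))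

theorem pp_anti (h : X ≤ Y) : pp f lam Y ≤ pp f lam X := fun _ hv x hx => hv x (h hx)

theorem Alt.add_self (h : Alt f) (v : V) : v + v = 0 := LA1.vtwo h.two v

theorem Alt.symm (h : Alt f) (v w : V) : f v w = f w v := by
  have h1 := h.alt (v + w)
  simp only [map_add, LinearMap.add_apply, h.alt, zero_add, add_zero] at h1
  have h2 := LA1.ftwo h.two (f w v)
  linear_combination h1 - h2

theorem Alt.nd_lam (h : Alt f) (hl : lam ≠ 0) {v : V} (hv : ∀ w, lam (f v w) = 0) : v = 0 := by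
  refine h.nd v fun w => ?_
  by_contra h0
  apply hl
  ext c
  have := hv ((c / f v w) • w)
  rw [map_smul, smul_eq_mul, div_mul_cancel₀ _ h0] at this
  exact this

theorem Alt.card_pp (h : Alt f) (hl : lam ≠ 0) (X : AddSubgroup V) :
    Nat.card (pp f lam X) * Nat.card X = Nat.card V := by
  let B : V →+ V →+ ZMod 2 :=
    { toFun := fun v => lam.comp (f v).toAddMonoidHom
      map_zero' := by ext w; simp
      map_add' := fun a b => by ext w; simp }
  have hB : ∀ v w, B v w = lam (f v w) := fun _ _ => rfl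
  exact LA1.card_orth h.add_self B (fun v w => by rw [hB, hB, h.symm])
    (fun v hv => h.nd_lam hl hv) X _ fun v => Iff.rfl

theorem Alt.pp_pp (h : Alt f) (hl : lam ≠ 0) (X : AddSubgroup V) :
    pp f lam (pp f lam X) = X := by
  have hle : X ≤ pp f lam (pp f lam X) := fun x hx v hv => by rw [h.symm]; exact hv x hx
  have h1 := h.card_pp hl X
  have h2 := h.card_pp hl (pp f lam X)
  have hp : 0 < Nat.card (pp f lam X) := Nat.card_pos
  have h3 : Nat.card (pp f lam (pp f lam X)) = Nat.card X := by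
    rw [← h1, mul_comm] at h2
    exact Nat.eq_of_mul_eq_mul_left hp h2
  exact (AddSubgroup.eq_of_le_of_card_ge hle h3.le).symm

theorem Alt.iso_le (h : Alt f) (hl : lam ≠ 0) (hX : ∀ x ∈ X, ∀ y ∈ X, lam (f x y) = 0) :
    Nat.card X ^ 2 ≤ Nat.card V := by
  have hle : X ≤ pp f lam X := fun x hx y hy => hX x hx y hy
  rw [← h.card_pp hl X, pow_two]
  exact Nat.mul_le_mul_right _ (AddSubgroup.card_le_of_le hle)

theorem Alt.dual (h : Alt f) (a : V ≃+ V) (ha : ∀ v w, f (a v) (a w) = f v w)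
    (hX : ∀ x ∈ X, a.symm x - x ∈ Y) {v : V} (hv : v ∈ pp f lam Y) : a v - v ∈ pp f lam X := by
  intro x hx
  have h1 := hv _ (hX x hx)
  have h2 : f (a v) x = f v (a.symm x) := by rw [← ha v, a.apply_symm_apply]
  rw [map_sub, LinearMap.sub_apply, h2]
  rwa [map_sub] at h1

theorem Alt.pp_fix (h : Alt f) (hl : lam ≠ 0) (a : V ≃+ V) (ha : ∀ v w, f (a v) (a w) = f v w)
    (hX : ∀ x, x ∈ X ↔ ∃ v, x = a v - v) (v : V) : v ∈ pp f lam X ↔ a v = v := by
  have key : ∀ w, f v (a w - w) = f (a.symm v - v) w := fun w => by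
    rw [map_sub, map_sub, LinearMap.sub_apply, ← ha (a.symm v) w, a.apply_symm_apply]
  constructor
  · intro hv
    have h1 : a.symm v - v = 0 := h.nd_lam hl fun w => by
      rw [← key]
      exact hv _ ((hX _).2 ⟨w, rfl⟩)
    rw [sub_eq_zero] at h1
    conv_lhs => rw [← h1]
    exact a.apply_symm_apply v
  · intro hv x hx
    obtain ⟨w, rfl⟩ := (hX x).1 hx
    have h1 : a.symm v = v := by
      conv_lhs => rw [← hv]
      exact a.symm_apply_apply v
    rw [key, h1, sub_self, map_zero, LinearMap.zero_apply, map_zero]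

/-- counting along an additive map -/
theorem card_le_of_map {A B : Type*} [AddCommGroup A] [AddCommGroup B] [Finite A] [Finite B]
    (ψ : A →+ B) {X Z : AddSubgroup A} {Y Y0 : AddSubgroup B} (hY : Y0 ≤ Y) (h1 : ∀ x ∈ X, ψ x ∈ Y)
    (h2 : ∀ x ∈ X, ψ x ∈ Y0 → x ∈ Z) :
    Nat.card X * Nat.card Y0 ≤ Nat.card Y * Nat.card ↥(X ⊓ Z) := by
  let φ : X →+ Y ⧸ Y0.addSubgroupOf Y :=
    (QuotientAddGroup.mk' _).comp ((ψ.comp X.subtype).codRestrict Y fun x => h1 x x.2)
  have e1 : Nat.card X = Nat.card φ.range * Nat.card φ.ker := by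
    rw [AddSubgroup.card_eq_card_quotient_mul_card_addSubgroup φ.ker,
      Nat.card_congr (QuotientAddGroup.quotientKerEquivRange φ).toEquiv]
  have e2 : Nat.card Y = Nat.card (Y ⧸ Y0.addSubgroupOf Y) * Nat.card Y0 := by
    rw [AddSubgroup.card_eq_card_quotient_mul_card_addSubgroup (Y0.addSubgroupOf Y),
      Nat.card_congr (AddSubgroup.addSubgroupOfEquivOfLe hY).toEquiv]
  have e3 : Nat.card φ.range ≤ Nat.card (Y ⧸ Y0.addSubgroupOf Y) :=
    Nat.card_le_card_of_injective _ φ.range.subtype_injective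
  have e4 : Nat.card φ.ker ≤ Nat.card ↥(X ⊓ Z) := by
    have hm : ∀ x : φ.ker, ((x : X) : A) ∈ X ⊓ Z := fun x => by
      refine ⟨x.1.2, h2 _ x.1.2 ?_⟩
      have hx : φ x = 0 := x.2
      have : ((ψ.comp X.subtype).codRestrict Y fun x => h1 x x.2) x ∈ Y0.addSubgroupOf Y :=
        (QuotientAddGroup.eq_zero_iff _).1 hx
      exact this
    refine Nat.card_le_card_of_injective (fun x : φ.ker => (⟨_, hm x⟩ : ↥(X ⊓ Z))) ?_
    intro x y hxy
    have h5 : ((x : X) : A) = ((y : X) : A) := congrArg (fun z : ↥(X ⊓ Z) => (z : A)) hxy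
    exact Subtype.ext (Subtype.ext h5)
  rw [e1, e2]
  calc Nat.card φ.range * Nat.card φ.ker * Nat.card Y0
      ≤ Nat.card (Y ⧸ Y0.addSubgroupOf Y) * Nat.card ↥(X ⊓ Z) * Nat.card Y0 :=
        Nat.mul_le_mul_right _ (Nat.mul_le_mul e3 e4)
    _ = _ := by ring

theorem semi_fix (φ : V →+ V) (σ : F → F) (hφ : ∀ c v, φ (c • v) = σ c • φ v) {c : F}
    (hc : σ c ≠ c) (K : Submodule F V) (hX : ∀ v ∈ X, v ∈ K ∧ φ v = v) :
    Nat.card X ^ 2 ≤ Nat.card K := by
  rw [pow_two, ← Nat.card_prod]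
  have hm : ∀ p : X × X, (p.1 : V) + c • (p.2 : V) ∈ K := fun p =>
    K.add_mem (hX _ p.1.2).1 (K.smul_mem _ (hX _ p.2.2).1)
  refine Nat.card_le_card_of_injective (fun p : X × X => (⟨_, hm p⟩ : K)) ?_
  rintro ⟨x, y⟩ ⟨x', y'⟩ hxy
  have h1 : (x : V) + c • (y : V) = x' + c • (y' : V) := congrArg Subtype.val hxy
  have h2 := congrArg φ h1
  rw [map_add, map_add, hφ, hφ, (hX _ x.2).2, (hX _ y.2).2, (hX _ x'.2).2, (hX _ y'.2).2] at h2
  have h3 : (σ c - c) • ((y : V) - y') = 0 := by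
    have : (σ c - c) • ((y : V) - y') =
        ((x : V) + σ c • (y : V) - (x' + σ c • (y' : V))) -
          ((x : V) + c • (y : V) - (x' + c • (y' : V))) := by module
    rw [this, h1, h2, sub_self, sub_self, sub_self]
  have h4 : (y : V) = y' := sub_eq_zero.1 ((smul_eq_zero.1 h3).resolve_left (sub_ne_zero.2 hc))
  rw [h4] at h1
  exact Prod.ext (Subtype.ext (add_right_cancel h1)) (Subtype.ext h4)

theorem semi_span (h2 : (2 : F) = 0) (φ : V →+ V) (σ : F → F) (hφ : ∀ c v, φ (c • v) = σ c • φ v)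
    {c : F} (hc : σ c ≠ c) (hi : ∀ v, φ (φ v) = v) (v : V) :
    ∃ (x y : V) (a b : F), φ x = x ∧ φ y = y ∧ v = a • x + b • y := by
  have hn : σ c - c ≠ 0 := sub_ne_zero.2 hc
  refine ⟨φ v + v, φ (c • v) + c • v, σ c / (σ c - c), -1 / (σ c - c), ?_, ?_, ?_⟩
  · rw [map_add, hi, add_comm]
  · rw [map_add, hi, add_comm]
  · rw [hφ]
    have : (σ c / (σ c - c)) • (φ v + v) + (-1 / (σ c - c)) • (σ c • φ v + c • v) =
        ((σ c - c) / (σ c - c)) • v := by
      rw [div_eq_mul_inv, div_eq_mul_inv, div_eq_mul_inv]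
      module
    rw [this, div_self hn, one_smul]

theorem semi_range (h2 : (2 : F) = 0) (φ : V →+ V) (σ : F ≃+* F)
    (hφ : ∀ c v, φ (c • v) = σ c • φ v) {c : F} (hc : σ c ≠ c) (hi : ∀ v, φ (φ v) = v) {v : V}
    (hv : φ v = v) : ∃ w, v = φ w - w := by
  by_cases h0 : v = 0
  · exact ⟨0, by rw [h0, map_zero, sub_self]⟩
  have hs : σ (σ c) = c := by
    have h1 := hi (c • v)
    rw [hφ, hφ, hv, hv] at h1
    have h3 : (σ (σ c) - c) • v = 0 := by rw [sub_smul, h1, sub_self]
    exact sub_eq_zero.1 ((smul_eq_zero.1 h3).resolve_right h0)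
  have hn : σ c - c ≠ 0 := sub_ne_zero.2 hc
  have hneg : σ (σ c - c) = σ c - c := by
    rw [map_sub, hs]
    linear_combination (c - σ c) * h2
  refine ⟨(c / (σ c - c)) • v, ?_⟩
  rw [hφ, hv, map_div₀, hneg, ← sub_smul, ← sub_div, div_self hn, one_smul]

theorem exists_line (hX : Nat.card X < Nat.card F ^ 2) (S : Set V)
    (hS : ∀ x ∈ S, ∀ c : F, c • x ∈ X) : ∃ l ∈ X, ∀ x ∈ S, ∃ c : F, x = c • l := by
  by_cases h0 : ∀ x ∈ S, x = 0
  · exact ⟨0, X.zero_mem, fun x hx => ⟨0, by rw [h0 x hx, smul_zero]⟩⟩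
  push Not at h0
  obtain ⟨l, hl, hl0⟩ := h0
  refine ⟨l, by simpa using hS l hl 1, fun x hx => ?_⟩
  by_contra hn
  apply not_le.2 hX
  rw [pow_two, ← Nat.card_prod]
  have hm : ∀ p : F × F, p.1 • l + p.2 • x ∈ X := fun p => X.add_mem (hS l hl _) (hS x hx _)
  refine Nat.card_le_card_of_injective (fun p : F × F => (⟨_, hm p⟩ : X)) ?_
  rintro ⟨a, b⟩ ⟨a', b'⟩ hab
  have h1 : a • l + b • x = a' • l + b' • x := congrArg Subtype.val hab
  have hb : b = b' := by
    by_contra hb
    apply hn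
    have hb' : b - b' ≠ 0 := sub_ne_zero.2 hb
    refine ⟨(a' - a) / (b - b'), ?_⟩
    have h3 : (b - b') • x = (a' - a) • l := by
      have : (b - b') • x = (a • l + b • x) - (a' • l + b' • x) + (a' - a) • l := by module
      rw [this, h1, sub_self, zero_add]
    rw [div_eq_inv_mul, mul_smul, ← h3, smul_smul, inv_mul_cancel₀ hb', one_smul]
  rw [hb] at h1
  have ha : a = a' := smul_left_injective F hl0 (add_right_cancel h1)
  rw [ha, hb]

end LA1

end Cfsg.Lib.FZ
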