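import Cfsg.Agent.FZ.LA1

/-!
# The rank lemma
-/

set_option autoImplicit false
set_option linter.unusedSectionVars false

namespace Cfsg.Lib.FZ

open Subgroup Cfsg.Lib.Trans Cfsg.Lib.Gold
open scoped commutatorElement

section LA2
variable {F V : Type*} [Field F] [AddCommGroup V] [Module F V] [Finite F] [Finite V]
  {f : V →ₗ[F] V →ₗ[F] F} {lam : F →+ ZMod 2} {W W0 N B K D Z : AddSubgroup V} {ρ : ℕ}

theorem LA2.step (h : Alt f) {X : AddSubgroup V} (hX : X ≤ pp f lam N) (hB : B ≤ pp f lam W0)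
    (hc : Nat.card (pp f lam W0) ≤ ρ ^ 2 * Nat.card B) (a : V ≃+ V) (ha : Gd f W0 N B D a)
    (ha' : Gd f W0 N B D a.symm) :
    Nat.card X ≤ ρ ^ 2 * Nat.card ↥(X ⊓ B.comap (a.toAddMonoidHom - AddMonoidHom.id V)) := by
  have h1 := card_le_of_map (a.toAddMonoidHom - AddMonoidHom.id V) (X := X)
    (Z := B.comap (a.toAddMonoidHom - AddMonoidHom.id V)) hB
    (fun x hx => h.dual a ha.iso ha'.wn (hX hx)) fun _ _ hx => hx
  refine Nat.le_of_mul_le_mul_right (h1.trans ?_) (Nat.card_pos (α := B))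
  rw [mul_right_comm]
  exact Nat.mul_le_mul_right _ hc

theorem LA2.mem (h : Alt f) (a b : V ≃+ V) (ha : Gd f W0 N B D a) (ha' : Gd f W0 N B D a.symm)
    (hb : Gd f W0 N B D b) (hb' : Gd f W0 N B D b.symm) {v : V} (hv : b v - v ∈ B) :
    a (b v - v) - (b v - v) ∈ D ⊓ pp f lam B :=
  ⟨ha.bd _ hv, h.dual a ha.iso ha'.bd (h.dual (Y := ⊥) b hb.iso
    (fun x hx => by rw [hb'.dd x hx, sub_self]; exact zero_mem _)
    (mem_pp.2 fun x hx => by rw [AddSubgroup.mem_bot.1 hx, map_zero, map_zero]))⟩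

theorem Alt.rank (h : Alt f) (hl : lam ≠ 0) (hK : K = pp f lam W) (hB : B ≤ K)
    (hKB : Nat.card K ≤ ρ * Nat.card B) (hW0 : W0 ≤ W) (hW : Nat.card W ≤ ρ * Nat.card W0)
    (hD : D ⊓ W ≤ N) (a b : V ≃+ V) (ha : Gd f W0 N B D a) (ha' : Gd f W0 N B D a.symm)
    (hb : Gd f W0 N B D b) (hb' : Gd f W0 N B D b.symm) (hZ : ∀ v, a (b v) = b (a v) → v ∈ Z) :
    Nat.card V ≤ Nat.card N ^ 2 * ρ ^ 5 * Nat.card Z := by
  subst hK
  have hV := h.card_pp hl W
  have c0 : Nat.card (pp f lam W0) ≤ ρ ^ 2 * Nat.card B := by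
    refine Nat.le_of_mul_le_mul_right ?_ (Nat.card_pos (α := W0))
    rw [h.card_pp hl, ← hV]
    exact (Nat.mul_le_mul hKB hW).trans_eq (by ring)
  have cB : Nat.card (pp f lam B) ≤ ρ * Nat.card W := by
    refine Nat.le_of_mul_le_mul_right ?_ (Nat.card_pos (α := B))
    rw [h.card_pp hl, ← hV]
    exact (Nat.mul_le_mul_right _ hKB).trans_eq (by ring)
  have hB0 := hB.trans (pp_anti hW0)
  have c1 := LA2.step h le_rfl hB0 c0 a ha ha'
  have c2 := LA2.step h (inf_le_left (b := B.comap (a.toAddMonoidHom - AddMonoidHom.id V))) hB0 c0 b hb hb'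
  have c3 := card_le_of_map (a.toAddMonoidHom.comp b.toAddMonoidHom - b.toAddMonoidHom.comp a.toAddMonoidHom)
    (X := pp f lam N ⊓ B.comap (a.toAddMonoidHom - AddMonoidHom.id V) ⊓
      B.comap (b.toAddMonoidHom - AddMonoidHom.id V)) (Z := Z) (Y := D ⊓ pp f lam B) (Y0 := ⊥) bot_le
    (fun v hv => by
      have h1 := sub_mem (LA2.mem (lam := lam) h a b ha ha' hb hb' hv.2)
        (LA2.mem (lam := lam) h b a hb hb' ha ha' hv.1.2)
      convert h1 using 1
      change a (b v) - b (a v) = _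
      simp only [map_sub]; abel)
    fun v _ hv => hZ v (sub_eq_zero.1 (AddSubgroup.mem_bot.1 hv))
  rw [AddSubgroup.card_bot, mul_one] at c3
  have c4 : Nat.card ↥(D ⊓ pp f lam B) ≤ ρ * Nat.card N := by
    have h1 := card_le_of_map (AddMonoidHom.id V) (X := D ⊓ pp f lam B) (Z := N) (Y := pp f lam B) (Y0 := W)
      ((h.pp_pp hl W).ge.trans (pp_anti hB)) (fun _ hx => hx.2) fun _ hx hw => hD ⟨hx.1, hw⟩
    refine Nat.le_of_mul_le_mul_right (h1.trans ?_) (Nat.card_pos (α := W))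
    exact (Nat.mul_le_mul cB (AddSubgroup.card_le_of_le inf_le_right)).trans_eq (by ring)
  have c5 := c3.trans (Nat.mul_le_mul c4 (AddSubgroup.card_le_of_le inf_le_right))
  rw [← h.card_pp hl N]
  exact (Nat.mul_le_mul_right _ (c1.trans (Nat.mul_le_mul_left _ (c2.trans
    (Nat.mul_le_mul_left _ c5))))).trans_eq (by ring)

end LA2

end Cfsg.Lib.FZ
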