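import Cfsg.Agent.FZ.II4

/-!
# Intersecting root groups, and the existence of a pair in the final configuration
-/

set_option autoImplicit false
set_option linter.unusedSectionVars false

namespace Cfsg.Lib.FZ

open Subgroup Cfsg.Lib.Trans Cfsg.Lib.Gold
open scoped commutatorElement

variable {G F V : Type*} [Group G] [Field F] [AddCommGroup V] [Module F V] [Finite G] [Finite F]
  [Finite V] {f : V →ₗ[F] V →ₗ[F] F} {qq : V → F} {d : ℕ} {Φ Φ' : Fl G F V}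

namespace M1

theorem two_zpowers {t : G} (h : t * t = 1) : IsPGroup 2 (zpowers t) := by
  rintro ⟨_, i, rfl⟩
  refine ⟨1, Subtype.ext ?_⟩
  change (t ^ i) ^ 2 ^ 1 = 1
  rw [pow_one, ← zpow_natCast, ← zpow_mul, mul_comm, zpow_mul, zpow_natCast, pow_two, h, one_zpow]

theorem two_sup {P : Subgroup G} (hP : IsPGroup 2 P) {t : G} (h : t * t = 1) (hn : t ∈ Ns P) :
    IsPGroup 2 ↥(P ⊔ zpowers t) :=
  hP.to_sup_of_normal_left' (two_zpowers h) (zpowers_le.2 hn)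

end M1

theorem Hy.ii (h : Hy f qq d Φ) (c : Cj Φ Φ') (hc : Commute Φ'.t Φ.t) (nb : Φ.R ⊓ Φ'.R ≠ ⊥) :
    Φ'.t = Φ.t := by
  by_contra ne
  obtain ⟨g, rfl⟩ := c
  have h0 : ((1, g) : G × G) ∈
      {x : G × G | (Φ.cn x.2).t ≠ (Φ.cn x.1).t ∧ Commute (Φ.cn x.2).t (Φ.cn x.1).t} := by
    simp only [Set.mem_ofPred_eq, Fl.cn_one]
    exact ⟨ne, hc⟩
  obtain ⟨⟨g1, g2⟩, ⟨h1, h2⟩, hm⟩ := Set.exists_max_image _
    (fun x : G × G => Nat.card ↥((Φ.cn x.1).R ⊓ (Φ.cn x.2).R)) (Set.toFinite _) ⟨_, h0⟩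
  refine Mx.false (⟨h.cn g1, (Cj.cn Φ g1).symm.trans (Cj.cn Φ g2), h1, h2, fun e => ?_,
    fun Φ₁ Φ₂ c1 c2 n1 n2 => ?_⟩ : Mx f qq d (Φ.cn g1) (Φ.cn g2))
  · have h3 := hm _ h0
    simp only [Fl.cn_one, e, card_bot] at h3
    exact nb (eq_bot_of_card_le _ h3)
  · obtain ⟨k1, rfl⟩ := (Cj.cn Φ g1).trans c1
    obtain ⟨k2, rfl⟩ := (Cj.cn Φ g1).trans c2
    exact hm (k1, k2) ⟨n1, n2⟩

theorem Hy.ii' (h : Hy f qq d Φ) {r : G} (hr : r ∈ Φ.R) (h1 : r ≠ 1) {P : Subgroup G}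
    (hP : IsPGroup 2 P) (hC : P ≤ C1 r) (ht : Φ.t ∈ P) : P ≤ C1 Φ.t := by
  refine cent_of hP ht fun x hx hc => h.ii (Cj.cn Φ x) hc fun e => h1 (mem_bot.1 (e ▸ ⟨hr, ?_⟩))
  rw [Fl.cn_R]
  refine mem_cj.2 ?_
  rw [mul_assoc, ← mem_C1.1 (hC hx), inv_mul_cancel_left]
  exact hr

namespace M1

theorem r1 (p : Pr f qq d Φ Φ') (r : G) (hr : r ∈ Φ.R) (hq : Φ'.Qt r) : r = 1 := by
  by_contra h1
  have h := p.h
  have h' := h.of_cj p.c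
  have ht : Φ.t ∈ C1 r := Cs_le_C1 (h.toSp.R_le_Q hr) h.toHy0.t_Cs
  have hP : IsPGroup 2 ↥(Φ'.Q ⊓ C1 r ⊔ zpowers Φ.t) :=
    two_sup (h'.toSp.two_Q.to_le inf_le_left) h.t2 (mem_Ns_inf p.n1 (le_normalizer ht))
  have h2 := h.ii' hr h1 hP (sup_le inf_le_right (zpowers_le.2 ht))
    (mem_sup_right (mem_zpowers _))
  have h3 : Nat.card ↥(Φ'.Q ⊓ C1 r) ≤ Nat.card ↥(Φ'.Q ⊓ C1 Φ.t) :=
    Subgroup.card_le_of_le (le_inf inf_le_left (le_sup_left.trans h2))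
  exact absurd ((h'.toHy0.qt_card hq).trans (Nat.mul_le_mul_left _ h3)) (not_le.2 p.big)

end M1

theorem Pr.mn (p : Pr f qq d Φ Φ') : Mn f qq d Φ Φ' := ⟨p, M1.r1 p, M1.r1 p.symm⟩

theorem Hy.exists_pr (h : Hy f qq d Φ) {g : G} (h1 : g * Φ.t * g⁻¹ ≠ Φ.t)
    (hc : Commute (g * Φ.t * g⁻¹) Φ.t) : ∃ Φ₁ Φ₂ : Fl G F V, Pr f qq d Φ₁ Φ₂ ∧
      (Φ₂.t ∈ Cs Φ₁.R → 2 * Nat.card F ^ (d + 1) < Nat.card ↥(Φ₁.Q ⊓ C1 Φ₂.t)) := by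
  have h' := h.cn g
  obtain ⟨P, ⟨hP, hH⟩, hm⟩ := Set.exists_max_image
    {P : Subgroup G | IsPGroup 2 P ∧ P ≤ C1 Φ.t ⊓ C1 (g * Φ.t * g⁻¹)} (fun P => Nat.card P)
    (Set.toFinite _) ⟨⊥, IsPGroup.of_bot, bot_le⟩
  have mx : ∀ U : Subgroup G, IsPGroup 2 U → U ≤ C1 Φ.t ⊓ C1 (g * Φ.t * g⁻¹) → P ≤ U → U = P :=
    fun U h2 h3 h4 => (eq_of_le_of_card_ge h4 (hm U ⟨h2, h3⟩)).symm
  have mem : ∀ x : G, x * x = 1 → P ≤ C1 x → x ∈ C1 Φ.t ⊓ C1 (g * Φ.t * g⁻¹) → x ∈ P :=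
    fun x x2 hx hx' => mx _ (M1.two_sup hP x2 (Cs_le_Ns (mem_Cs.2 fun u hu => mem_C1.1 (hx hu))))
      (sup_le hH (zpowers_le.2 hx')) le_sup_left ▸ mem_sup_right (mem_zpowers x)
  have t1 : Φ.t ∈ P := mem _ h.t2 (hH.trans inf_le_left) ⟨mem_C1.2 rfl, mem_C1.2 hc.symm⟩
  have t2 : g * Φ.t * g⁻¹ ∈ P := mem _ h'.t2 (hH.trans inf_le_right) ⟨mem_C1.2 hc, mem_C1.2 rfl⟩
  obtain ⟨Φ₁, c1, e1, l1⟩ := h.toHy0.flag hP (hH.trans inf_le_left)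
  obtain ⟨Φ₂, c2, e2, l2⟩ := h'.toHy0.flag hP (hH.trans inf_le_right)
  rw [Fl.cn_t] at e2
  have k1 := h.of_cj c1
  have k2 := h'.of_cj c2
  rw [← e2] at h1 hc hH hm mx t2
  rw [← e1] at h1 hc hH hm mx t1
  have c : Cj Φ₁ Φ₂ := c1.symm.trans ((Cj.cn Φ g).trans c2)
  have a1 : Φ₁.T ⊓ C1 Φ₂.t = P := mx _ (k1.T2.to_le inf_le_left) (inf_le_inf_right _ k1.TC)
    (le_inf l1 (hH.trans inf_le_right))
  have a2 : Φ₂.T ⊓ C1 Φ₁.t = P := mx _ (k2.T2.to_le inf_le_left)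
    (le_inf inf_le_right (inf_le_left.trans k2.TC)) (le_inf l2 (hH.trans inf_le_left))
  refine ⟨Φ₁, Φ₂, ⟨k1, c, h1, hc, ((inf_le_inf_right _ k1.QT).trans a1.le).trans (l2.trans k2.TN),
    ((inf_le_inf_right _ k2.QT).trans a2.le).trans (l1.trans k1.TN), k2.TN (l2 t1),
    k1.TN (l1 t2)⟩, fun hR => k1.lb _ c.isConj h1 (l1 t2) hR fun U h2 h3 => ?_⟩
  rw [a1]
  exact hm U ⟨h2, h3⟩

end Cfsg.Lib.FZ
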