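import Cfsg.Agent.FZ.RL

/-!
# The final configuration: `t` centralises `R'` and `C_Q(t')` is small
-/

set_option autoImplicit false
set_option linter.unusedSectionVars false

namespace Cfsg.Lib.FZ

open Subgroup Cfsg.Lib.Trans Cfsg.Lib.Gold
open scoped commutatorElement

variable {G F V : Type*} [Group G] [Field F] [AddCommGroup V] [Module F V] [Finite G] [Finite F]
  [Finite V] {f : V →ₗ[F] V →ₗ[F] F} {qq : V → F} {d : ℕ} {Φ Φ' : Fl G F V}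

namespace M2

/-- a group of exponent four and class two with at most one involution has order at most `8`. -/
theorem card_le_eight {P : Subgroup G} (h4 : ∀ a ∈ P, a * a * (a * a) = 1)
    (hc : ∀ a ∈ P, ∀ b ∈ P, a * b * a⁻¹ * b⁻¹ * (a * b * a⁻¹ * b⁻¹) = 1)
    (hu : ∀ a ∈ P, ∀ b ∈ P, a * a = 1 → b * b = 1 → a ≠ 1 → b ≠ 1 → a = b) : Nat.card P ≤ 8 := by
  classical
  obtain ⟨i, hi2, hi⟩ : ∃ i : G, i * i = 1 ∧ ∀ x ∈ P, x * x = 1 → x = 1 ∨ x = i := by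
    by_cases h : ∃ i ∈ P, i * i = 1 ∧ i ≠ 1
    · obtain ⟨i, hi, h2, h1⟩ := h
      exact ⟨i, h2, fun x hx x2 => or_iff_not_imp_left.2 fun x1 => hu x hx i hi x2 h2 x1 h1⟩
    · exact ⟨1, mul_one 1, fun x hx x2 => Or.inl (by_contra fun x1 => h ⟨x, hx, x2, x1⟩)⟩
  have key : ∃ a b : G, ∀ y ∈ P, y ∈ ({1, i, a, a * i} : Finset G) ∨
      b⁻¹ * y ∈ ({1, i, a, a * i} : Finset G) := by
    by_cases h : ∀ a ∈ P, a * a = 1
    · exact ⟨1, 1, fun y hy => Or.inl (by rcases hi y hy (h y hy) with e | e <;> simp [e])⟩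
    push Not at h
    obtain ⟨a, ha, a2⟩ := h
    have ai : a * a = i := (hi _ (mul_mem ha ha) (h4 a ha)).resolve_left a2
    have h1 : ∀ y ∈ P, Commute a y → y ∈ ({1, i, a⁻¹, a⁻¹ * i} : Finset G) := by
      intro y hy hc'
      rcases hi _ (mul_mem hy hy) (h4 y hy) with e | e
      · rcases hi y hy e with e | e <;> simp [e]
      · have : a * y * (a * y) = 1 := by
          rw [hc'.symm.mul_mul_mul_comm, ai, e, hi2]
        rcases hi _ (mul_mem ha hy) this with e | e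
        · simp [eq_inv_of_mul_eq_one_right e]
        · simp [← e]
    by_cases h : ∀ y ∈ P, Commute a y
    · exact ⟨a⁻¹, 1, fun y hy => Or.inl (h1 y hy (h y hy))⟩
    push Not at h
    obtain ⟨b, hb, hab⟩ := h
    have h2 : ∀ y ∈ P, ¬ Commute a y → a * y * a⁻¹ * y⁻¹ = i := fun y hy hn =>
      (hi _ (mul_mem (mul_mem (mul_mem ha hy) (inv_mem ha)) (inv_mem hy)) (hc a ha y hy)).resolve_left
        fun e => hn (commutatorElement_eq_one_iff_commute.1 e)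
    refine ⟨a⁻¹, b, fun y hy => ?_⟩
    by_cases hn : Commute a y
    · exact Or.inl (h1 y hy hn)
    · refine Or.inr (h1 _ (mul_mem (inv_mem hb) hy) ?_)
      have e := (h2 y hy hn).trans (h2 b hb hab).symm
      change a * (b⁻¹ * y) = b⁻¹ * y * a
      calc a * (b⁻¹ * y) = b⁻¹ * (a * b * a⁻¹ * b⁻¹)⁻¹ * a * y := by group
        _ = b⁻¹ * y * a := by rw [← e]; group
  obtain ⟨a, b, hab⟩ := key
  set S : Finset G := {1, i, a, a * i}
  have hS : S.card ≤ 4 := Finset.card_le_four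
  calc Nat.card P = (P : Set G).ncard := rfl
    _ ≤ ((S ∪ S.image (b * ·) : Finset G) : Set G).ncard := by
        refine Set.ncard_le_ncard fun y hy => Finset.mem_coe.2 (Finset.mem_union.2 ?_)
        exact (hab y hy).imp_right fun h => Finset.mem_image.2 ⟨_, h, by group⟩
    _ ≤ 8 := by
        rw [Set.ncard_coe_finset]
        have := Finset.card_union_le S (S.image (b * ·))
        have := Finset.card_image_le (s := S) (f := (b * ·))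
        omega

end M2

theorem Mn.symm (p : Mn f qq d Φ Φ') : Mn f qq d Φ' Φ := ⟨p.toPr.symm, p.r2, p.r1⟩

theorem Mn.tR (p : Mn f qq d Φ Φ') : Φ.t ∈ Cs Φ'.R := by
  by_contra hR
  have h := p.h
  have h' := h.of_cj p.c
  have s := h.toSp
  have s' := h'.toSp
  have hD : ∀ x ∈ Φ.Q, x ∈ Φ'.Q → x = 1 := fun x hx hx' =>
    p.r2 x (s'.sl_perp p.n1 h.t2 hR hx' fun y hy => commutatorElement_eq_one_iff_commute.1
      (p.r2 _ (s'.comm_mem hx' hy.1) (Or.inl (p.toPr.AB ⟨hx, h'.toHy0.QC hx'⟩ hy).1))) (Or.inl hx)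
  have hQt : ∀ a ∈ Φ.Q ⊓ C1 Φ'.t ⊓ Cs Φ'.R, a * a = 1 → a ≠ 1 → Φ'.t * a ∈ Φ'.Q := by
    intro a ha a2 a1
    have hK := s'.sl_lin p.n1 h.t2 hR (p.nA ha.1) ha.2 fun y hy =>
      commutatorElement_eq_one_iff_commute.1 (hD _ (p.toPr.AB ha.1 hy).1 (p.toPr.AB ha.1 hy).2)
    refine (h'.toHy0.mr' a2 ha.1.2 (p.nA ha.1) ?_).resolve_left fun hq => a1 (hD a ha.1.1 hq)
    rw [hK]
    exact lt_mul_of_one_lt_left Nat.card_pos (Nat.one_lt_pow (by omega) s.two_le)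
  have h8 : Nat.card ↥(Φ.Q ⊓ C1 Φ'.t ⊓ Cs Φ'.R) ≤ 8 := by
    refine M2.card_le_eight (fun a ha => s.R_sq (s.sq_mem ha.1.1))
      (fun a ha b hb => s.R_sq (s.comm_mem ha.1.1 hb.1.1)) fun a ha b hb a2 b2 a1 b1 => ?_
    have h1 := mul_mem (inv_mem (hQt a ha a2 a1)) (hQt b hb b2 b1)
    rw [show (Φ'.t * a)⁻¹ * (Φ'.t * b) = a⁻¹ * b by group] at h1
    exact inv_mul_eq_one.1 (hD _ (mul_mem (inv_mem ha.1.1) hb.1.1) h1)
  have h1 := s.le_card_C p.n2 h'.t2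
  have h2 := s'.cyc4 p.nA fun x hx => s.pow4 hx.1
  have h3 : 2 ^ 10 ≤ Nat.card F ^ d :=
    (Nat.pow_le_pow_right (by omega) s.d10).trans (Nat.pow_le_pow_left s.two_le d)
  omega

theorem Mn.small (p : Mn f qq d Φ Φ') :
    Nat.card ↥(Φ.Q ⊓ C1 Φ'.t) ≤ 2 * Nat.card F ^ (d + 1) := by
  have h := p.h
  have s := h.toSp
  have s' := (h.of_cj p.c).toSp
  have hD : Φ.R ⊓ Φ'.Q ≤ Φ'.R := fun r hr => by
    rw [p.r1 r hr.1 (Or.inl hr.2)]; exact one_mem _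
  have hab : Φ.Q ⊓ C1 Φ'.t ⊓ Cs Φ'.R ≤ Cs (Φ.Q ⊓ C1 Φ'.t ⊓ Cs Φ'.R) := fun b hb =>
    mem_Cs.2 fun a ha => commutatorElement_eq_one_iff_commute.1
      (p.r1 _ (s.comm_mem ha.1.1 hb.1.1) (p.toPr.rl p.tR hD ha hb))
  have hX : Φ.Q ⊓ C1 Φ'.t ⊓ Cs Φ'.R ⊔ Φ.R ≤ Φ.Q := sup_le (inf_le_left.trans inf_le_left) s.R_le_Q
  have hc : Φ.Q ⊓ C1 Φ'.t ⊓ Cs Φ'.R ⊔ Φ.R ≤ Cs (Φ.Q ⊓ C1 Φ'.t ⊓ Cs Φ'.R ⊔ Φ.R) :=
    sup_le (le_Cs_comm.1 (sup_le hab (s.R_le_Cs.trans (Cs_anti (inf_le_left.trans inf_le_left)))))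
      (s.R_le_Cs.trans (Cs_anti hX))
  have h1 : Nat.card ↥(Φ.Q ⊓ C1 Φ'.t ⊓ Cs Φ'.R ⊔ Φ.R) ≤ Nat.card F ^ (d + 1) := by
    by_contra hlt
    have h2 := s.comm_big hX (not_le.1 hlt)
    rw [commutator_eq_bot_iff_le_centralizer.2 hc, le_bot_iff] at h2
    have h3 := s.card_R
    have h4 := s.two_le
    rw [h2, card_bot] at h3
    omega
  have h2 := s'.cyc2' (Y := Φ.R) (s.two_Q.to_le inf_le_left) p.nA
    (le_inf s.R_le_Q fun r hr => mem_C1.2 (mem_Cs.1 p.symm.tR r hr)) fun x hx => s.sq_mem hx.1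
  omega

end Cfsg.Lib.FZ
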