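import Cfsg.Agent.FZ.M1
import Cfsg.Agent.FZ.M2

/-!
# The fusion `t ∼ t z`
-/

set_option autoImplicit false
set_option linter.unusedSectionVars false

namespace Cfsg.Lib.FZ

open Subgroup Cfsg.Lib.Trans Cfsg.Lib.Gold
open scoped commutatorElement

variable {G F V : Type*} [Group G] [Field F] [AddCommGroup V] [Module F V] [Finite G] [Finite F]
  [Finite V] {f : V →ₗ[F] V →ₗ[F] F} {qq : V → F} {d : ℕ} {Φ Φ' : Fl G F V}

theorem Hy0.fz (h : Hy0 f qq d Φ) {g : G} (h1 : g * Φ.t * g⁻¹ ≠ Φ.t)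
    (hc : Commute (g * Φ.t * g⁻¹) Φ.t) : ∃ c : F, c ≠ 0 ∧ IsConj Φ.t (Φ.t * Φ.ι c) := by
  by_contra hn
  have h' : Hy f qq d Φ := ⟨h, fun r hr hj => by
    obtain ⟨c, rfl⟩ := h.toSp.mem_R.1 hr
    by_cases h0 : c = 0
    · rw [h0, h.toSp.ι_zero]
    · exact absurd ⟨c, h0, hj⟩ hn⟩
  obtain ⟨Φ₁, Φ₂, p, hp⟩ := h'.exists_pr h1 hc
  exact absurd (hp p.mn.symm.tR) (not_lt.2 p.mn.small)

end Cfsg.Lib.FZ
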