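import Cfsg.Agent.FZ.F1b

/-!
# No other conjugate of `t` lies in `Q ⟨t⟩`
-/

set_option autoImplicit false
set_option linter.unusedSectionVars false

namespace Cfsg.Lib.FZ

open Subgroup Cfsg.Lib.Trans Cfsg.Lib.Gold
open scoped commutatorElement

namespace NQ

variable {G : Type*} [Group G] [Finite G] {X R : Subgroup G} {e : G}

/-- The commutator map with values in an abelian subgroup centralised by the source. -/
def sm (hX : X ≤ Cs R) (hR : R ≤ Cs R) (he : ∀ x ∈ X, x * e * x⁻¹ * e⁻¹ ∈ R) : X →* R :=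
  MonoidHom.mk' (fun x => ⟨x * e * (x : G)⁻¹ * e⁻¹, he x x.2⟩) fun a b => Subtype.ext (by
    have h1 := mem_Cs.1 (hX a.2) _ (he b b.2)
    have h2 := mem_Cs.1 (hR (he a a.2)) _ (he b b.2)
    show (a * b : G) * e * (a * b : G)⁻¹ * e⁻¹ = a * e * (a : G)⁻¹ * e⁻¹ * (b * e * (b : G)⁻¹ * e⁻¹)
    rw [← h2]
    calc (a * b : G) * e * (a * b : G)⁻¹ * e⁻¹
        = a * (b * e * (b : G)⁻¹ * e⁻¹) * (e * (a : G)⁻¹ * e⁻¹) := by group
      _ = _ := by rw [← h1]; group)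

theorem sm_eq_1' : type_of% @sm.eq_1 := @sm.eq_1

theorem sm_eq_one (hX : X ≤ Cs R) (hR : R ≤ Cs R) (he : ∀ x ∈ X, x * e * x⁻¹ * e⁻¹ ∈ R) (x : X) :
    sm hX hR he x = 1 ↔ (x : G) ∈ C1 e := by
  rw [mem_C1, Subtype.ext_iff]
  show (x : G) * e * (x : G)⁻¹ * e⁻¹ = 1 ↔ _
  rw [mul_inv_eq_one, mul_inv_eq_iff_eq_mul]

theorem comm_le (hX : X ≤ Cs R) (hR : R ≤ Cs R) (he : ∀ x ∈ X, x * e * x⁻¹ * e⁻¹ ∈ R) :
    ⁅X, X⁆ ≤ C1 e := commutator_le.2 fun a ha b hb => by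
  refine (sm_eq_one hX hR he ⁅(⟨a, ha⟩ : X), ⟨b, hb⟩⁆).1 ?_
  rw [map_commutatorElement, commutatorElement_eq_one_iff_mul_comm]
  exact Subtype.ext (mem_Cs.1 (hR (sm hX hR he ⟨b, hb⟩).2) _ (sm hX hR he ⟨a, ha⟩).2)

theorem card_le (hX : X ≤ Cs R) (hR : R ≤ Cs R) (he : ∀ x ∈ X, x * e * x⁻¹ * e⁻¹ ∈ R) :
    Nat.card X ≤ Nat.card R * Nat.card ↥(X ⊓ C1 e) := by
  have h1 : (sm hX hR he).ker = (X ⊓ C1 e).subgroupOf X := by
    ext x
    rw [MonoidHom.mem_ker, sm_eq_one, mem_subgroupOf, mem_inf, and_iff_right x.2]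
  rw [← (sm hX hR he).ker.index_mul_card, index_ker, h1,
    Nat.card_congr (subgroupOfEquivOfLe inf_le_left).toEquiv]
  exact Nat.mul_le_mul_right _ (card_le_card_group _)

end NQ

variable {G F V : Type*} [Group G] [Field F] [AddCommGroup V] [Module F V] [Finite G] [Finite F]
  [Finite V] {f : V →ₗ[F] V →ₗ[F] F} {qq : V → F} {d : ℕ} {Φ Φ' : Fl G F V}

theorem Hy.nq (h : Hy f qq d Φ) (c : Cj Φ Φ') (hq : Φ.Qt Φ'.t) : Φ'.t = Φ.t := by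
  by_contra hne
  have h0 := h.toHy0
  have S := h0.toSp
  have hv : Φ.t * Φ'.t ∈ Φ.Q := hq.resolve_left fun k => h.nc _ k c.isConj
  obtain ⟨v, hvd⟩ : ∃ v, v = Φ.t * Φ'.t := ⟨_, rfl⟩
  rw [← hvd] at hv
  have hs : Φ'.t = Φ.t * v := by rw [hvd, ← mul_assoc, h.t2, one_mul]
  have vR : v ∉ Φ.R := fun k => hne (by rw [hs, h.ntr v k (hs ▸ c.isConj), mul_one])
  have tR : Φ.t ∈ Cs Φ.R := Cs_anti S.R_le_Q h0.t_Cs
  have sR : Φ'.t ∈ Cs Φ.R := hs ▸ mul_mem tR (S.Q_le_Cs hv)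
  have ts : Φ.t ∈ C1 Φ'.t := by
    rw [mem_C1, hs, mul_assoc, mem_C1.1 (h0.QC hv)]
  have star : ∀ r ∈ Φ.R, IsConj Φ'.t (Φ'.t * r) := fun r hr => by
    obtain ⟨u, hu, e⟩ := S.onto hv vR hr
    refine isConj_iff.2 ⟨u, ?_⟩
    rw [hs, ← mul_assoc, mem_C1.1 (h0.QC hu), mul_assoc Φ.t v, ← mem_Cs.1 (S.Q_le_Cs hv) r hr, ← e]
    group
  obtain ⟨B, hB⟩ : ∃ B, B = Φ.Q ⊓ C1 Φ'.t := ⟨_, rfl⟩
  have BQ : B ≤ Φ.Q := hB ▸ inf_le_left
  have BC : B ≤ C1 Φ'.t := hB ▸ inf_le_right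
  have cB : Nat.card Φ.Q ≤ Nat.card F * Nat.card B := hB ▸ h0.qt_card hq
  have B2 : IsPGroup 2 B := S.two_Q.to_le BQ
  have t2 : IsPGroup 2 (zpowers Φ.t) := isPGroup_of_sq fun a ha => by
    obtain ⟨k, rfl⟩ := mem_zpowers_iff.1 ha
    rw [← zpow_add, ← two_mul, zpow_mul, zpow_two, h.t2, one_zpow]
  have P2 : IsPGroup 2 ↥(zpowers Φ.t ⊔ B) := t2.to_sup_of_normal_right' B2
    (zpowers_le.2 (Cs_le_Ns (Cs_anti BQ h0.t_Cs)))
  obtain ⟨Ψ, c2, e2, hT⟩ := (h.of_cj c).toHy0.flag P2 (sup_le (zpowers_le.2 ts) BC)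
  have k := (h.of_cj c).of_cj c2
  have k0 := k.toHy0
  have S2 := k0.toSp
  have BT : B ≤ Ψ.T := le_sup_right.trans hT
  have tT : Φ.t ∈ Ψ.T := hT (mem_sup_left (mem_zpowers _))
  have RE : ∀ r ∈ Φ.R, r ∈ Ψ.E → r = 1 := fun r hr he => k.ntrE he (e2 ▸ star r hr)
  have q2 := S.two_le
  have d10 := S.d10
  rw [S.card_Q] at cB
  have cB' : Nat.card F ^ (2 * d) ≤ Nat.card B :=
    Nat.le_of_mul_le_mul_left (by rwa [← pow_succ']) (by omega : 0 < Nat.card F)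
  have lt : 2 * Nat.card F ^ (d + 1) < Nat.card F ^ (2 * d) :=
    calc 2 * Nat.card F ^ (d + 1) ≤ Nat.card F ^ (d + 2) := by
          rw [pow_succ' _ (d + 1)]; exact Nat.mul_le_mul_right _ q2
      _ < _ := Nat.pow_lt_pow_right q2 (by omega)
  have BN : B ≤ Ns Ψ.Q := BT.trans k.TN
  have RC : Φ.R ≤ Cs Ψ.R := (S.comm_big BQ (by omega)).trans (S2.cyc0 B2 BN)
  obtain ⟨c1, c3⟩ := S2.cyc2 B2 BN fun x hx => RC (S.sq_mem (BQ hx))
  obtain ⟨B0, hB0⟩ : ∃ B0, B0 = B ⊓ Cs Ψ.R := ⟨_, rfl⟩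
  rw [← hB0] at c1 c3
  have B0B : B0 ≤ B := hB0 ▸ inf_le_left
  have B0C : B0 ≤ Cs Ψ.R := hB0 ▸ inf_le_right
  have B0Q := B0B.trans BQ
  have RR : Ψ.R ≤ Cs Ψ.R := S2.R_le_Q.trans S2.Q_le_Cs
  have he : ∀ e ∈ Ψ.E, ∀ x ∈ B0, x * e * x⁻¹ * e⁻¹ ∈ Ψ.R := fun e he x hx =>
    k.eT x (BT (B0B hx)) (B0C hx) e he
  have ER : Ψ.E ≤ Cs Φ.R := fun e he' => mem_Cs.2 fun r hr =>
    mem_C1.1 (NQ.comm_le B0C RR (he e he') (S.comm_big B0Q (by omega) hr))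
  have ET : Ψ.E ≤ Ψ.T := k.EQ.trans k.QT
  have Et : Ψ.E ≤ C1 Φ.t := le_sup_left.trans (h.f1' (P := Ψ.E ⊔ zpowers Φ.t)
    (k.T2.to_le (sup_le ET (zpowers_le.2 tT)))
    ((sup_le ER (zpowers_le.2 tR)).trans Cs_le_Ns) (mem_sup_right (mem_zpowers _)))
  have Eq : ∀ e ∈ Ψ.E, Φ.Qt e := fun e he' => by
    refine h0.mr' (k0.E_sq he') (Et he') (h0.Cs_Ns (Et he') (ER he')) ?_
    have a1 := NQ.card_le B0C RR (he e he')
    have a2 := Subgroup.card_le_of_le ((inf_le_inf_right (C1 e) B0Q).trans (S.C_le_K e))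
    have a3 : 0 < Nat.card (Φ.K e) := Nat.card_pos
    rw [S2.card_R] at a1
    rw [S.card_Q]
    calc _ ≤ _ := cB
      _ ≤ Nat.card F * (Nat.card F * (Nat.card F * Nat.card (Φ.K e))) :=
          Nat.mul_le_mul_left _ (c1.trans (Nat.mul_le_mul q2
            (a1.trans (Nat.mul_le_mul_left _ a2))))
      _ = Nat.card F ^ 3 * Nat.card (Φ.K e) := by ring
      _ < _ := Nat.mul_lt_mul_of_pos_right (Nat.pow_lt_pow_right q2 (by norm_num)) a3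
  have EB : Ψ.E ≤ Cs B0 := fun e he' => mem_Cs.2 fun b hb => by
    have a1 := h0.qt_comm (Eq e he') (B0Q hb)
    have a2 : e * b * e⁻¹ * b⁻¹ ∈ Ψ.E := by
      have := inv_mem (k.RE (he e he' b hb))
      simpa [mul_assoc] using this
    have := RE _ a1 a2
    rw [mul_inv_eq_one, mul_inv_eq_iff_eq_mul] at this
    exact this.symm
  have sB : Φ'.t ∈ Cs B0 := mem_Cs.2 fun b hb => mem_C1.1 (BC (B0B hb))
  have RB : Φ.R ≤ Cs B0 := S.R_le_Cs.trans (Cs_anti B0Q)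
  let g : Ψ.E × Φ.R × Bool → G := fun x => x.1 * x.2.1 * if x.2.2 then Φ'.t else 1
  have ex : ∀ x, ∃ y : ↥(Φ.Q ⊓ Cs B0) × Bool, g x = (if y.2 then Φ.t else 1) * y.1 := fun x => by
    have a1 : Φ.Qt (g x) := h0.qt_mul (h0.qt_mul (Eq _ x.1.2) (Or.inl (S.R_le_Q x.2.1.2))) (by
      split_ifs
      · exact hq
      · exact Or.inl (one_mem _))
    have a2 : g x ∈ Cs B0 := mul_mem (mul_mem (EB x.1.2) (RB x.2.1.2)) (by
      split_ifs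
      · exact sB
      · exact one_mem _)
    rcases a1 with a1 | a1
    · exact ⟨(⟨_, a1, a2⟩, false), by simp⟩
    · exact ⟨(⟨_, a1, mul_mem (Cs_anti B0Q h0.t_Cs) a2⟩, true), by simp [← mul_assoc, h.t2]⟩
  choose j hj using ex
  have ns : ∀ e ∈ Ψ.E, ∀ r ∈ Φ.R, ∀ e' ∈ Ψ.E, ∀ r' ∈ Φ.R, e * r * Φ'.t ≠ e' * r' :=
    fun e he' r hr e' he'' r' hr' a => by
      refine k.nc (e⁻¹ * e') (k.EQ (mul_mem (inv_mem he') he'')) ?_
      have a1 := star _ (mul_mem hr (inv_mem hr'))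
      rw [← mul_assoc, ← mem_Cs.1 sR r hr] at a1
      rw [e2]
      convert a1 using 1
      rw [eq_mul_inv_iff_mul_eq, mul_assoc, ← a]
      group
  have gi : Function.Injective g := by
    rintro ⟨⟨e, he'⟩, ⟨r, hr⟩, i⟩ ⟨⟨e', he''⟩, ⟨r', hr'⟩, i'⟩ a
    have key : e * r = e' * r' → e = e' ∧ r = r' := fun a => by
      have a1 : r * r'⁻¹ = e⁻¹ * e' := by
        rw [mul_inv_eq_iff_eq_mul, mul_assoc, ← a, inv_mul_cancel_left]
      have a2 := RE _ (mul_mem hr (inv_mem hr')) (a1 ▸ mul_mem (inv_mem he') he'')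
      rw [a2] at a1
      exact ⟨inv_mul_eq_one.1 a1.symm, mul_inv_eq_one.1 a2⟩
    cases i <;> cases i' <;> simp only [g, if_true, if_false, Bool.false_eq_true, mul_one,
      mul_left_inj] at a
    · obtain ⟨rfl, rfl⟩ := key a; rfl
    · exact absurd a.symm (ns _ he'' _ hr' _ he' _ hr)
    · exact absurd a (ns _ he' _ hr _ he'' _ hr')
    · obtain ⟨rfl, rfl⟩ := key a; rfl
  have cj := Nat.card_le_card_of_injective j fun x y a => gi (by rw [hj, hj, a])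
  have cz := S.cent_le B0Q
  rw [Nat.card_prod, Nat.card_prod, Nat.card_prod, k.cE, S.card_R, Nat.card_eq_fintype_card (α := Bool),
    Fintype.card_bool] at cj
  rw [S.card_Q] at cz
  have p0 : 0 < Nat.card B0 := Nat.card_pos
  have : 2 * (Nat.card F ^ 3 * Nat.card B0) ≤ Nat.card F ^ 3 * Nat.card B0 :=
    calc 2 * (Nat.card F ^ 3 * Nat.card B0) = Nat.card F ^ 2 * (Nat.card F * 2) * Nat.card B0 := by
          ring
      _ ≤ Nat.card ↥(Φ.Q ⊓ Cs B0) * 2 * Nat.card B0 := Nat.mul_le_mul_right _ cj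
      _ = 2 * (Nat.card ↥(Φ.Q ⊓ Cs B0) * Nat.card B0) := by ring
      _ ≤ 2 * (Nat.card F * (Nat.card F * Nat.card B)) :=
          Nat.mul_le_mul_left _ (cz.trans (Nat.mul_le_mul_left _ cB))
      _ = Nat.card F ^ 2 * (2 * Nat.card B) := by ring
      _ ≤ Nat.card F ^ 2 * (Nat.card F * Nat.card B0) := Nat.mul_le_mul_left _ c3
      _ = _ := by ring
  have : 0 < Nat.card F ^ 3 * Nat.card B0 := by positivity
  omega

end Cfsg.Lib.FZ
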