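import Cfsg.Agent.FZ.NQ
import Cfsg.Agent.FZ.ANI
import Cfsg.Agent.FZ.LA2

/-!
# The rank lemma for pairs of commuting conjugates
-/

set_option autoImplicit false
set_option linter.unusedSectionVars false

namespace Cfsg.Lib.FZ

open Subgroup Cfsg.Lib.Trans Cfsg.Lib.Gold
open scoped commutatorElement

variable {G F V : Type*} [Group G] [Field F] [AddCommGroup V] [Module F V] [Finite G] [Finite F]
  [Finite V] {f : V →ₗ[F] V →ₗ[F] F} {qq : V → F} {d : ℕ} {Φ Φ' : Fl G F V}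

namespace RL

theorem bar_mono {X Y : Subgroup G} (h : X ≤ Y) : Φ.bar X ≤ Φ.bar Y :=
  AddSubgroup.closure_mono fun _ ⟨u, h1, h2⟩ => ⟨u, h h1, h2⟩

theorem π_sub (h : Sp f qq d Φ) {u w : G} (hu : u ∈ Φ.Q) (hw : w ∈ Φ.Q) :
    Φ.π u - Φ.π w = Φ.π (u * w⁻¹) := by
  rw [h.π_mul _ hu _ (Subgroup.inv_mem _ hw), h.π_inv hw, sub_eq_iff_eq_add, add_assoc, h.alt.add_self,
    add_zero]

end RL

namespace Pr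
variable (p : Pr f qq d Φ Φ')
include p

theorem symm : Pr f qq d Φ' Φ :=
  ⟨p.h.of_cj p.c, p.c.symm, p.ne.symm, p.cm.symm, p.nB, p.nA, p.n2, p.n1⟩

theorem big : Nat.card F * Nat.card ↥(Φ'.Q ⊓ C1 Φ.t) < Nat.card Φ'.Q := by
  have h' := p.symm.h
  by_contra e
  refine p.ne (h'.nq p.c.symm (h'.toHy0.mr' p.h.t2 (mem_C1.2 p.cm.symm.eq) p.n1 ?_)).symm
  refine (not_lt.1 e).trans_lt ((Nat.mul_le_mul_left _ (Subgroup.card_le_of_le (h'.toSp.C_le_K _))).trans_lt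
    (Nat.mul_lt_mul_of_pos_right ?_ Nat.card_pos))
  have := Nat.pow_lt_pow_right h'.toSp.two_le (by omega : 1 < 6)
  rwa [pow_one] at this

theorem sig {y : G} (hq : Φ.t * y * Φ.t⁻¹ * y⁻¹ ∈ Φ.Q) : Φ.t * y * Φ.t⁻¹ * y⁻¹ = 1 := by
  have e : Φ.t * y * Φ.t⁻¹ * y⁻¹ = Φ.t * (Φ.cn y).t := by
    rw [inv_eq_of_sq p.h.t2, Fl.cn_t]
    group
  rw [e] at hq ⊢
  rw [p.h.nq (Cj.cn Φ y) (.inr hq), p.h.t2]

theorem cardN (hR : Φ.t ∈ Cs Φ'.R) :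
    Nat.card ↥(Φ'.W Φ.t ⊓ Φ.Q) * Nat.card ↥(Φ'.R1 Φ.t ⊔ (Φ.Q ⊓ Φ'.R)) ^ 2 ≤
      Nat.card ↥(Φ.Q ⊓ Φ'.R) * Nat.card F ^ 2 :=
  p.symm.h.toSp.ani p.n1 hR p.h.t2 (inf_le_inf_left _ p.h.toHy0.QC)
    (fun _ hx => ⟨⟨p.symm.h.toSp.R_le_W _ hx.2, hx.1⟩, hx.2⟩) fun _ _ hm => p.sig hm.2

theorem AB {a b : G} (ha : a ∈ Φ.Q ⊓ C1 Φ'.t) (hb : b ∈ Φ'.Q ⊓ C1 Φ.t) :
    a * b * a⁻¹ * b⁻¹ ∈ Φ.Q ⊓ Φ'.Q := by
  refine ⟨?_, Subgroup.mul_mem _ (mem_normalizer_conj (p.nA ha) hb.1) (Subgroup.inv_mem _ hb.1)⟩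
  rw [show a * b * a⁻¹ * b⁻¹ = a * (b * a⁻¹ * b⁻¹) by group]
  exact Subgroup.mul_mem _ ha.1 (mem_normalizer_conj (p.nB hb) (Subgroup.inv_mem _ ha.1))

theorem rl (hR : Φ.t ∈ Cs Φ'.R) (hD : Φ.R ⊓ Φ'.Q ≤ Φ'.R) {a b : G}
    (ha : a ∈ Φ.Q ⊓ C1 Φ'.t ⊓ Cs Φ'.R) (hb : b ∈ Φ.Q ⊓ C1 Φ'.t ⊓ Cs Φ'.R) :
    Φ'.Qt (a * b * a⁻¹ * b⁻¹) := by
  have h := p.h.toSp
  have h' := p.symm.h.toSp
  have gd : ∀ a ∈ Φ.Q ⊓ C1 Φ'.t ⊓ Cs Φ'.R, ∀ φ : V → V,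
      (∀ u ∈ Φ'.Q, φ (Φ'.π u) = Φ'.π (a * u * a⁻¹)) → (∀ z z', f (φ z) (φ z') = f z z') →
      Gd f (Φ'.bar (Φ'.W Φ.t ⊓ C1 Φ.t)) (Φ'.bar (Φ'.W Φ.t ⊓ Φ.Q)) (Φ'.bar (Φ'.Q ⊓ C1 Φ.t))
        (Φ'.bar (Φ.Q ⊓ Φ'.Q)) φ := fun a ha φ h1 h2 => by
    have aN := p.nA ha.1
    refine ⟨h2, fun w hw => ?_, fun w hw => ?_, fun w hw => ?_⟩
    · obtain ⟨u, u1, u2, rfl⟩ := h'.mem_bar.1 hw
      have := p.AB ha.1 ⟨u2, u1.2⟩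
      rw [h1 u u2, RL.π_sub h' (mem_normalizer_conj aN u2) u2]
      exact h'.mem_bar.2 ⟨_, ⟨Subgroup.mul_mem _ (mem_normalizer_conj
        (h'.Ns_W p.n1 aN (p.h.toHy0.QC ha.1.1)) u1.1) (Subgroup.inv_mem _ u1.1), this.1⟩, this.2, rfl⟩
    · obtain ⟨u, u1, u2, rfl⟩ := h'.mem_bar.1 hw
      have := p.AB ha.1 u1
      rw [h1 u u2, RL.π_sub h' (mem_normalizer_conj aN u2) u2]
      exact h'.mem_bar.2 ⟨_, this, this.2, rfl⟩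
    · obtain ⟨u, u1, u2, rfl⟩ := h'.mem_bar.1 hw
      rw [h1 u u2, h'.π_eq_iff (mem_normalizer_conj aN u2) u2]
      exact hD ⟨h.comm_mem ha.1.1 u1.1, Subgroup.mul_mem _ (mem_normalizer_conj aN u2) (Subgroup.inv_mem _ u2)⟩
  have aN := p.nA ha.1
  have bN := p.nA hb.1
  obtain ⟨φ, a1, a2, a3, -⟩ := h'.lin aN ha.2
  obtain ⟨ψ, b1, b2, b3, -⟩ := h'.lin bN hb.2
  have iso : ∀ φ : V ≃ₗ[F] V, (∀ z z', f (φ z) (φ z') = f z z') →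
      ∀ z z', f (φ.symm z) (φ.symm z') = f z z' := fun φ e z z' => by
    rw [← e, φ.apply_symm_apply, φ.apply_symm_apply]
  have rN : a * b * a⁻¹ * b⁻¹ ∈ Ns Φ'.Q :=
    Subgroup.mul_mem _ (Subgroup.mul_mem _ (Subgroup.mul_mem _ aN bN) (Subgroup.inv_mem _ aN)) (Subgroup.inv_mem _ bN)
  have re : a * b * a⁻¹ * b⁻¹ = a⁻¹ * b⁻¹ * a * b := by
    have := h.comm _ (Subgroup.inv_mem _ ha.1.1) _ (Subgroup.inv_mem _ hb.1.1)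
    rw [inv_inv, inv_inv, h.π_inv ha.1.1, h.π_inv hb.1.1] at this
    rw [this, h.comm _ ha.1.1 _ hb.1.1]
  obtain ⟨lam, hl, -⟩ := exists_lam h.two (S := ⊥) bot_ne_top
  have q0 : 0 < Nat.card F := Nat.card_pos
  have RC : Φ'.R ≤ C1 Φ.t := fun r hr => mem_C1.2 (mem_Cs.1 hR r hr)
  have key := h'.alt.rank hl (ρ := Nat.card (Φ'.R1 Φ.t)) (h'.pp_W p.n1 hR hl)
    (B := Φ'.bar (Φ'.Q ⊓ C1 Φ.t)) (W0 := Φ'.bar (Φ'.W Φ.t ⊓ C1 Φ.t))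
    (N := Φ'.bar (Φ'.W Φ.t ⊓ Φ.Q)) (D := Φ'.bar (Φ.Q ⊓ Φ'.Q))
    (Z := Φ'.bar (Φ'.K (a * b * a⁻¹ * b⁻¹))) (RL.bar_mono (h'.C_le_K _))
    (Nat.le_of_mul_le_mul_left (by
      rw [h'.card_bar' (h'.R_le_K p.n1) (h'.K_le _), mul_left_comm,
        h'.card_bar' (le_inf h'.R_le_Q RC) inf_le_left, h'.card_K p.n1]) q0)
    (RL.bar_mono inf_le_left)
    (Nat.le_of_mul_le_mul_left (by
      rw [h'.card_bar' (h'.R_le_W _) (h'.W_le p.n1), mul_left_comm,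
        h'.card_bar' (le_inf (h'.R_le_W _) RC) (inf_le_left.trans (h'.W_le p.n1))]
      exact h'.card_W0 p.n1 p.h.t2) q0)
    (fun z hz => by
      obtain ⟨u, u1, u2, rfl⟩ := h'.mem_bar.1 hz.1
      exact h'.mem_bar.2 ⟨u, ⟨(h'.π_mem_bar (h'.R_le_W _) u2).1 hz.2, u1.1⟩, u2, rfl⟩)
    φ.toAddEquiv ψ.toAddEquiv (gd a ha _ a1 a3)
    (gd a⁻¹ (Subgroup.inv_mem _ ha) _ (by simpa using a2) (iso φ a3)) (gd b hb _ b1 b3)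
    (gd b⁻¹ (Subgroup.inv_mem _ hb) _ (by simpa using b2) (iso ψ b3)) (fun v hv => by
      refine (h'.mem_bar_K rN (φ := fun z => φ.symm (ψ.symm (φ (ψ z)))) fun u hu => ?_).2 ?_
      · have u1 := mem_normalizer_conj bN hu
        have u2 := mem_normalizer_conj aN u1
        rw [b1 u hu, a1 _ u1, b2 _ u2, a2 _ (mem_normalizer_conj' bN u2), re]
        congr 1
        group
      · change φ (ψ v) = ψ (φ v) at hv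
        rw [hv, ψ.symm_apply_apply, φ.symm_apply_apply])
  have n1 := h'.card_bar (Φ'.W Φ.t ⊓ Φ.Q)
  rw [show Φ'.W Φ.t ⊓ Φ.Q ⊓ Φ'.R = Φ.Q ⊓ Φ'.R from
      le_antisymm (fun _ hx => ⟨hx.1.2, hx.2⟩) fun _ hx => ⟨⟨h'.R_le_W _ hx.2, hx.1⟩, hx.2⟩,
    inf_eq_left.2 (inf_le_left.trans (h'.W_le p.n1))] at n1
  have n2 := p.cardN hR
  rw [← n1, mul_comm (Nat.card (Φ'.bar _)), mul_assoc] at n2
  have n3 : Nat.card (Φ'.bar (Φ'.W Φ.t ⊓ Φ.Q)) * Nat.card (Φ'.R1 Φ.t) ^ 2 ≤ Nat.card F ^ 2 :=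
    (Nat.mul_le_mul_left _ (Nat.pow_le_pow_left (Subgroup.card_le_of_le le_sup_left) 2)).trans
      (Nat.le_of_mul_le_mul_left n2 Nat.card_pos)
  have n4 : Nat.card (Φ'.R1 Φ.t) ≤ Nat.card F := h'.card_R ▸ Subgroup.card_le_of_le (h'.R1_le p.n1)
  have n5 : Nat.card (Φ'.bar (Φ'.W Φ.t ⊓ Φ.Q)) ^ 2 * Nat.card (Φ'.R1 Φ.t) ^ 5 ≤ Nat.card F ^ 5 :=
    calc _ = (Nat.card (Φ'.bar (Φ'.W Φ.t ⊓ Φ.Q)) * Nat.card (Φ'.R1 Φ.t) ^ 2) ^ 2 *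
          Nat.card (Φ'.R1 Φ.t) := by ring
      _ ≤ (Nat.card F ^ 2) ^ 2 * Nat.card F := Nat.mul_le_mul (Nat.pow_le_pow_left n3 2) n4
      _ = _ := by ring
  refine p.symm.h.toHy0.mr' (h.R_sq (h.comm_mem ha.1.1 hb.1.1))
    (Subgroup.mul_mem _ (Subgroup.mul_mem _ (Subgroup.mul_mem _ ha.1.2 hb.1.2) (Subgroup.inv_mem _ ha.1.2)) (Subgroup.inv_mem _ hb.1.2)) rN ?_
  calc Nat.card Φ'.Q = Nat.card F * Nat.card V := by rw [h'.card_Q, h'.cV, pow_succ']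
    _ ≤ Nat.card F * (Nat.card F ^ 5 * Nat.card (Φ'.bar (Φ'.K (a * b * a⁻¹ * b⁻¹)))) :=
      Nat.mul_le_mul_left _ (key.trans (Nat.mul_le_mul_right _ n5))
    _ = Nat.card F ^ 5 * Nat.card (Φ'.K (a * b * a⁻¹ * b⁻¹)) := by
      rw [mul_left_comm, h'.card_bar' (h'.R_le_K rN) (h'.K_le _)]
    _ < _ := Nat.mul_lt_mul_of_pos_right (Nat.pow_lt_pow_right h.two_le (by omega)) Nat.card_pos

end Pr

end Cfsg.Lib.FZ
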